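import Cfsg.Agent.Lib.LocalEvenB.SelfCentralEight.Sections

/-!
An involution acting on a normal elementary abelian 2-subgroup.
-/

set_option autoImplicit false

namespace CfsgLib.LocalEvenB.SelfCentralEight.Conj

open Subgroup
open CfsgLib.LocalEvenB.SelfCentralEight.Sections

variable {G : Type*} [Group G]

/-- A normal elementary abelian 2-subgroup. -/
structure NormalElem (E : Subgroup G) : Prop where
  normal : E.Normal
  comm : ∀ x ∈ E, ∀ y ∈ E, x * y = y * x
  sq : ∀ x ∈ E, x * x = 1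

theorem NormalElem.inv_eq {E : Subgroup G} (hE : NormalElem E) {x : G} (hx : x ∈ E) : x⁻¹ = x :=
  inv_eq_of_mul_eq_one_right (hE.sq x hx)

theorem NormalElem.of_elementary {E : Subgroup G} (hn : E.Normal) (h : IsMulCommutative E)
    (h2 : ∀ x ∈ E, x ^ 2 = 1) : NormalElem E :=
  ⟨hn, fun x hx y hy => congrArg Subtype.val (h.is_comm.comm ⟨x, hx⟩ ⟨y, hy⟩),
    fun x hx => (pow_two x).symm.trans (h2 x hx)⟩

theorem NormalElem.le_centralizer {E : Subgroup G} (hE : NormalElem E) :
    E ≤ Subgroup.centralizer (E : Set G) :=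
  fun x hx => mem_centralizer_iff.mpr fun y hy => hE.comm y hy x hx

theorem mem_fix {E : Subgroup G} {a u : G} :
    u ∈ E ⊓ Subgroup.centralizer ({a} : Set G) ↔ u ∈ E ∧ u * a = a * u := by
  rw [Subgroup.mem_inf, mem_centralizer_singleton_iff]

theorem fixed_iff {a u : G} (ha : a * a = 1) : u * a = a * u ↔ a * u * a = u := by
  constructor
  · intro h; rw [← h, mul_assoc, ha, mul_one]
  · intro h
    conv_lhs => rw [← h]
    rw [mul_assoc, ha, mul_one]

theorem conj_inv_mem {E : Subgroup G} (hE : E.Normal) {a : G} (ha : a * a = 1) {u : G} (hu : u ∈ E) :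
    a * u * a ∈ E := by
  have e : a⁻¹ = a := inv_eq_of_mul_eq_one_right ha
  have := hE.conj_mem u hu a
  rwa [e] at this

/-- `s⁻¹ s^a`. -/
def dd (a s : G) : G := s⁻¹ * (a * s * a)

theorem dd_mul {a : G} (ha : a * a = 1) (s t : G) : dd a (s * t) = t⁻¹ * dd a s * t * dd a t := by
  simp only [dd, mul_inv_rev]
  calc t⁻¹ * s⁻¹ * (a * (s * t) * a) = t⁻¹ * s⁻¹ * a * s * (t * a) := by group
    _ = t⁻¹ * s⁻¹ * a * s * (a * a) * (t * a) := by rw [ha]; group
    _ = _ := by group

theorem dd_conj {a : G} (ha : a * a = 1) (s : G) : a * dd a s * a = (dd a s)⁻¹ := by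
  have e : a⁻¹ = a := inv_eq_of_mul_eq_one_right ha
  simp only [dd, mul_inv_rev, inv_inv, e]
  calc a * (s⁻¹ * (a * s * a)) * a = a * s⁻¹ * a * s * (a * a) := by group
    _ = _ := by rw [ha]; group

theorem dd_one_iff {a : G} (ha : a * a = 1) (s : G) : dd a s = 1 ↔ s * a = a * s := by
  rw [dd, inv_mul_eq_one, fixed_iff ha, eq_comm]

theorem dd_eq_one_of_commute {a s : G} (ha : a * a = 1) (h : s * a = a * s) : dd a s = 1 :=
  (dd_one_iff ha s).mpr h

theorem dd_fixed {E : Subgroup G} (hE : NormalElem E) {a s : G} (ha : a * a = 1) (h : dd a s ∈ E) :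
    dd a s * a = a * dd a s :=
  (fixed_iff ha).mpr ((dd_conj ha s).trans (hE.inv_eq h))

/-- If `s` commutes with `a` modulo the centraliser of `E`, its action on `E` commutes with that of `a`. -/
theorem conj_comm {E : Subgroup G} {a s : G} (hE : E.Normal) (ha : a * a = 1)
    (h : dd a s ∈ Subgroup.centralizer (E : Set G)) {u : G} (hu : u ∈ E) :
    a * (s * u * s⁻¹) * a = s * (a * u * a) * s⁻¹ := by
  have e : a⁻¹ = a := inv_eq_of_mul_eq_one_right ha
  have h1 := mem_centralizer_iff.mp h (a * u * a) (conj_inv_mem hE ha hu)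
  have hs : a * s * a = s * dd a s := by rw [dd, mul_inv_cancel_left]
  calc a * (s * u * s⁻¹) * a = a * s * (a * a) * u * ((a * a) * s⁻¹ * a) := by rw [ha]; group
    _ = (a * s * a) * (a * u * a) * (a * s * a)⁻¹ := by simp only [mul_inv_rev, e]; group
    _ = s * ((dd a s) * (a * u * a)) * (dd a s)⁻¹ * s⁻¹ := by rw [hs]; group
    _ = _ := by rw [← h1]; group

/-- The image of `u ↦ [u, a]` on `E`. -/
def im {E : Subgroup G} (hE : NormalElem E) {a : G} (ha : a * a = 1) : E →* G where
  toFun u := (u : G) * (a * u * a)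
  map_one' := by simp [ha]
  map_mul' u v := by
    have h1 := conj_inv_mem hE.normal ha u.2
    have h2 := conj_inv_mem hE.normal ha v.2
    push_cast
    calc (u : G) * v * (a * (u * v) * a) = u * v * (a * u * (a * a) * v * a) := by rw [ha]; group
      _ = u * (v * (a * u * a)) * (a * v * a) := by group
      _ = u * ((a * u * a) * v) * (a * v * a) := by rw [hE.comm v v.2 _ h1]
      _ = _ := by group

theorem im_le_fix {E : Subgroup G} (hE : NormalElem E) {a : G} (ha : a * a = 1) :
    (im hE ha).range ≤ E ⊓ Subgroup.centralizer ({a} : Set G) := by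
  rintro _ ⟨u, rfl⟩
  refine mem_fix.mpr ⟨mul_mem u.2 (conj_inv_mem hE.normal ha u.2), (fixed_iff ha).mpr ?_⟩
  show a * (u * (a * u * a)) * a = u * (a * u * a)
  calc a * ((u : G) * (a * u * a)) * a = (a * u * a) * ((u : G) * (a * a)) := by group
    _ = (a * u * a) * u := by rw [ha, mul_one]
    _ = _ := hE.comm _ (conj_inv_mem hE.normal ha u.2) _ u.2

theorem card_eq_fix_mul_im [Finite G] {E : Subgroup G} (hE : NormalElem E) {a : G} (ha : a * a = 1) :
    Nat.card E = Nat.card (E ⊓ Subgroup.centralizer ({a} : Set G) : Subgroup G) * Nat.card (im hE ha).range := by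
  have h1 := card_mul_index (im hE ha).ker
  rw [Subgroup.index_ker] at h1
  rw [← h1]
  congr 1
  have : (im hE ha).ker.map E.subtype = E ⊓ Subgroup.centralizer ({a} : Set G) := by
    ext x
    simp only [Subgroup.mem_map, MonoidHom.mem_ker, mem_fix]
    constructor
    · rintro ⟨u, hu, rfl⟩
      refine ⟨u.2, (fixed_iff ha).mpr ?_⟩
      have : (u : G) * (a * u * a) = 1 := hu
      exact (eq_inv_of_mul_eq_one_right this).trans (hE.inv_eq u.2)
    · rintro ⟨hx, hxa⟩
      refine ⟨⟨x, hx⟩, ?_, rfl⟩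
      show x * (a * x * a) = 1
      rw [(fixed_iff ha).mp hxa, hE.sq x hx]
  rw [← this, card_map_of_injective E.subtype_injective]

theorem card_im_le_fix [Finite G] {E : Subgroup G} (hE : NormalElem E) {a : G} (ha : a * a = 1) :
    Nat.card (im hE ha).range ≤ Nat.card (E ⊓ Subgroup.centralizer ({a} : Set G) : Subgroup G) :=
  Nat.le_of_dvd Nat.card_pos (card_dvd_of_le (im_le_fix hE ha))

theorem card_le_sq [Finite G] {E : Subgroup G} (hE : NormalElem E) {a : G} (ha : a * a = 1) :
    Nat.card E ≤ Nat.card (E ⊓ Subgroup.centralizer ({a} : Set G) : Subgroup G) *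
      Nat.card (E ⊓ Subgroup.centralizer ({a} : Set G) : Subgroup G) :=
  (card_eq_fix_mul_im hE ha).le.trans (Nat.mul_le_mul_left _ (card_im_le_fix hE ha))

/-- An element moved by `a` inside the image can be corrected to commute with `a`. -/
theorem adjust {E : Subgroup G} (hE : NormalElem E) {a s : G} (ha : a * a = 1)
    (h : dd a s ∈ (im hE ha).range) : ∃ u ∈ E, (s * u) * a = a * (s * u) := by
  obtain ⟨u, hu⟩ := h
  refine ⟨u, u.2, (dd_one_iff ha _).mp ?_⟩
  have hm : (u : G) * (a * u * a) ∈ E := mul_mem u.2 (conj_inv_mem hE.normal ha u.2)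
  have hu' : (u : G) * (a * u * a) = dd a s := hu
  rw [dd_mul ha, ← hu', hE.inv_eq u.2]
  calc (u : G) * (u * (a * u * a)) * u * dd a u
      = u * (u * (a * u * a)) * u * ((u : G)⁻¹ * (a * u * a)) := rfl
    _ = ((u : G) * u) * ((a * u * a) * (a * u * a)) := by group
    _ = 1 := by rw [hE.sq u u.2, hE.sq _ (conj_inv_mem hE.normal ha u.2), one_mul]

/-- Adjoining an element of order two modulo a normal subgroup. -/
theorem step_mem [Finite G] {N : Subgroup G} [N.Normal] {m x : G} (hm : m * m ∈ N)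
    (hx : x ∈ N ⊔ Subgroup.zpowers m) : x ∈ N ∨ ∃ n ∈ N, x = n * m := by
  obtain ⟨n, hn, v, hv, rfl⟩ := Subgroup.mem_sup_of_normal_left.mp hx
  obtain ⟨i, rfl⟩ := mem_zpowers_iff.mp hv
  have hev : ∀ t : ℤ, m ^ (2 * t) ∈ N := fun t => by
    rw [zpow_mul, zpow_two]
    exact zpow_mem hm t
  rcases Int.even_or_odd' i with ⟨t, rfl | rfl⟩
  · exact Or.inl (mul_mem hn (hev t))
  · exact Or.inr ⟨n * m ^ (2 * t), mul_mem hn (hev t), by rw [zpow_add_one]; group⟩

theorem step_card [Finite G] {N : Subgroup G} [N.Normal] {m : G} (hm : m * m ∈ N) (hmN : m ∉ N) :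
    Nat.card (N ⊔ Subgroup.zpowers m : Subgroup G) = 2 * Nat.card N := by
  rw [card_eq_inf_mul_map (QuotientGroup.mk' N) (N ⊔ Subgroup.zpowers m), QuotientGroup.ker_mk',
    inf_eq_right.mpr le_sup_left, mul_comm]
  congr 1
  rw [Subgroup.map_sup, QuotientGroup.map_mk'_self, bot_sup_eq, MonoidHom.map_zpowers,
    Nat.card_zpowers]
  refine orderOf_eq_prime ?_ ?_
  · rw [QuotientGroup.mk'_apply, pow_two, ← QuotientGroup.mk_mul, QuotientGroup.eq_one_iff]
    exact hm
  · rw [QuotientGroup.mk'_apply, Ne, QuotientGroup.eq_one_iff]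
    exact hmN

theorem step_normal [Finite G] {N : Subgroup G} [N.Normal] {m : G} (hm : m * m ∈ N)
    (hc : ∀ g : G, g * m * g⁻¹ * m⁻¹ ∈ N) : (N ⊔ Subgroup.zpowers m).Normal := by
  refine ⟨fun x hx g => ?_⟩
  have hgm : g * m * g⁻¹ ∈ N ⊔ Subgroup.zpowers m := by
    simpa using mul_mem (mem_sup_left (T := Subgroup.zpowers m) (hc g))
      (mem_sup_right (S := N) (mem_zpowers m))
  rcases step_mem hm hx with h | ⟨n, hn, rfl⟩
  · exact mem_sup_left (Normal.conj_mem inferInstance x h g)
  · rw [show g * (n * m) * g⁻¹ = (g * n * g⁻¹) * (g * m * g⁻¹) by group]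
    exact mul_mem (mem_sup_left (Normal.conj_mem inferInstance n hn g)) hgm

/-- An abelian exponent-two step over a normal elementary subgroup. -/
theorem step_elem [Finite G] {E : Subgroup G} (hE : NormalElem E) {m : G} (hm : m * m = 1)
    (hc : ∀ g : G, g * m * g⁻¹ * m⁻¹ ∈ E) (hmC : m ∈ Subgroup.centralizer (E : Set G)) :
    NormalElem (E ⊔ Subgroup.zpowers m) := by
  haveI := hE.normal
  have hmm : m * m ∈ E := by rw [hm]; exact one_mem E
  have hcm : ∀ u ∈ E, u * m = m * u := fun u hu => mem_centralizer_iff.mp hmC u hu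
  refine ⟨step_normal hmm hc, ?_, ?_⟩
  · intro x hx y hy
    rcases step_mem hmm hx with h | ⟨n, hn, rfl⟩ <;> rcases step_mem hmm hy with h' | ⟨n', hn', rfl⟩
    · exact hE.comm x h y h'
    · rw [← mul_assoc, hE.comm x h n' hn', mul_assoc, hcm x h, ← mul_assoc]
    · rw [mul_assoc, ← hcm y h', ← mul_assoc, hE.comm n hn y h', mul_assoc]
    · calc n * m * (n' * m) = n * (m * n') * m := by group
        _ = n * n' * (m * m) := by rw [← hcm n' hn']; group
        _ = n' * n * (m * m) := by rw [hE.comm n hn n' hn']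
        _ = n' * (n * m) * m := by group
        _ = n' * (m * n) * m := by rw [hcm n hn]
        _ = _ := by group
  · intro x hx
    rcases step_mem hmm hx with h | ⟨n, hn, rfl⟩
    · exact hE.sq x h
    · calc n * m * (n * m) = n * (m * n) * m := by group
        _ = n * n * (m * m) := by rw [← hcm n hn, mul_assoc, mul_assoc n n, mul_assoc n m m]
        _ = 1 := by rw [hE.sq n hn, hm, one_mul]

end CfsgLib.LocalEvenB.SelfCentralEight.Conj
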