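import Cfsg.Agent.Lib.LocalEvenB.SelfCentralEight.EightFinish

/-!
Arguments shared by the two configurations of a self-centralising elementary subgroup of order 8.
-/

set_option autoImplicit false

namespace CfsgLib.LocalEvenB.SelfCentralEight.Common

open Subgroup
open CfsgLib.LocalEvenB.SelfCentralEight.Sections CfsgLib.LocalEvenB.SelfCentralEight.Conj
open CfsgLib.LocalEvenB.SelfCentralEight.EightFinish

variable {G : Type*} [Group G] [Finite G]

theorem four_cases {V : Subgroup G} (hV : Nat.card V = 4) (hc : ∀ x ∈ V, ∀ y ∈ V, x * y = y * x)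
    {w f : G} (hw : w ∈ V) (hf : f ∈ V) (hw2 : w * w = 1) (hw1 : w ≠ 1) (hfw : f ∉ Subgroup.zpowers w)
    {x : G} (hx : x ∈ V) :
    x ∈ Subgroup.zpowers w ∨ ∃ n ∈ Subgroup.zpowers w, x = n * f := by
  have h2 : (Subgroup.zpowers w).relIndex V = 2 := by
    have h := relIndex_mul_card (zpowers_le.mpr hw)
    rw [Nat.card_zpowers, orderOf_eq_prime ((pow_two w).trans hw2) hw1, hV] at h
    omega
  by_cases hxw : x ∈ Subgroup.zpowers w
  · exact Or.inl hxw
  · refine Or.inr ⟨x * f⁻¹, ?_, by group⟩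
    have := (mul_mem_iff_of_index_two (H := (Subgroup.zpowers w).subgroupOf V) h2
      (a := ⟨x, hx⟩) (b := ⟨f⁻¹, inv_mem hf⟩)).mpr
        (by simp only [Subgroup.mem_subgroupOf]; exact iff_of_false hxw (fun h => hfw (by simpa using inv_mem h)))
    simpa [Subgroup.mem_subgroupOf] using this

theorem mk_comm_iff {E : Subgroup G} [E.Normal] {a s : G} (ha : a * a = 1) :
    QuotientGroup.mk' E s * QuotientGroup.mk' E a = QuotientGroup.mk' E a * QuotientGroup.mk' E s ↔
      dd a s ∈ E := by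
  have e : a⁻¹ = a := inv_eq_of_mul_eq_one_right ha
  rw [← map_mul, ← map_mul, QuotientGroup.mk'_apply, QuotientGroup.mk'_apply, QuotientGroup.eq]
  have key : (s * a)⁻¹ * (a * s) = a * dd a s * a := by
    rw [dd, mul_inv_rev, e]
    calc a * s⁻¹ * (a * s) = a * s⁻¹ * a * s * (a * a) := by rw [ha]; group
      _ = _ := by group
  rw [key]
  constructor
  · intro h
    have h1 := conj_inv_mem (E := E) inferInstance ha h
    have : a * (a * dd a s * a) * a = (a * a) * dd a s * (a * a) := by group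
    rwa [this, ha, one_mul, mul_one] at h1
  · exact conj_inv_mem inferInstance ha

theorem dd_mem_of_central {E : Subgroup G} (hE : E.Normal) {a s : G} (ha : a * a = 1)
    (h : ∀ g : G, g * s * g⁻¹ * s⁻¹ ∈ E) : dd a s ∈ E := by
  have e : a⁻¹ = a := inv_eq_of_mul_eq_one_right ha
  have h1 := hE.conj_mem _ (h a) s⁻¹
  rw [e] at h1
  simpa [dd, mul_assoc] using h1

theorem mk_mem_center {E : Subgroup G} [E.Normal] {x : G} (hx : QuotientGroup.mk' E x ∈ Subgroup.center (G ⧸ E))
    (g : G) : g * x * g⁻¹ * x⁻¹ ∈ E := by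
  rw [← QuotientGroup.eq_one_iff, QuotientGroup.mk_mul, QuotientGroup.mk_mul, QuotientGroup.mk_mul,
    QuotientGroup.mk_inv, QuotientGroup.mk_inv]
  have h := mem_center_iff.mp hx (QuotientGroup.mk' E g)
  simp only [QuotientGroup.mk'_apply] at h
  rw [h]
  group

/-- A thick section cannot contain an element acting on `E` like an involution with small fixed group. -/
theorem no_thick {E : Subgroup G} (hE : NormalElem E) (h16 : Nat.card E = 16) {K N : Subgroup G}
    (hKN : Sec K N) (hthick : 5 ≤ (N ⊓ E).relIndex (K ⊓ E)) {k a : G} (hk : k ∈ K) (ha : a * a = 1)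
    (hfix : Nat.card (E ⊓ Subgroup.centralizer ({a} : Set G) : Subgroup G) ≤ 4) (hka : k⁻¹ * a ∈ E) :
    False := by
  have e : a⁻¹ = a := inv_eq_of_mul_eq_one_right ha
  have hact : ∀ u ∈ E, a * u * a = k * u * k⁻¹ := fun u hu => by
    rw [eq_of_conj hu (hE.le_centralizer hka), e]
  have hcom : ∀ u ∈ K ⊓ E, u * (a * u * a) ∈ N ⊓ E := fun u hu => by
    obtain ⟨huK, huE⟩ := Subgroup.mem_inf.mp hu
    refine Subgroup.mem_inf.mpr ⟨?_, E.mul_mem huE (conj_inv_mem hE.normal ha huE)⟩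
    rw [← hE.comm _ (conj_inv_mem hE.normal ha huE) u huE, hact u huE]
    have := hKN.comm_mem hk huK
    rwa [hE.inv_eq huE] at this
  have hri := relIndex_mul_card (inf_le_inf_right E hKN.1)
  have hM : Nat.card (K ⊓ E : Subgroup G) ≤ 16 := h16 ▸ card_le_of_le inf_le_right
  have hdvd : Nat.card (K ⊓ E : Subgroup G) ∣ 16 := h16 ▸ card_dvd_of_le inf_le_right
  obtain ⟨j, hj4, hj⟩ := (Nat.dvd_prime_pow Nat.prime_two).mp (show Nat.card (K ⊓ E : Subgroup G) ∣ 2 ^ 4 from hdvd)
  have hpos : 0 < Nat.card (N ⊓ E : Subgroup G) := Nat.card_pos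
  rw [hj] at hri
  rcases Nat.lt_or_ge j 4 with hj3 | hj4'
  · have hle : 2 ^ j ≤ 8 := le_trans (Nat.pow_le_pow_right (by norm_num) (show j ≤ 3 by omega)) (by norm_num)
    have hP : N ⊓ E = ⊥ := by
      refine eq_bot_of_card_eq _ ?_
      by_contra hne
      have h2le : 2 ≤ Nat.card (N ⊓ E : Subgroup G) := by omega
      nlinarith
    have hMf : K ⊓ E ≤ E ⊓ Subgroup.centralizer ({a} : Set G) := fun u hu => by
      have huE := (Subgroup.mem_inf.mp hu).2
      have h1 := hcom u hu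
      rw [hP, Subgroup.mem_bot] at h1
      exact mem_fix.mpr ⟨huE, (fixed_iff ha).mpr ((eq_inv_of_mul_eq_one_right h1).trans (hE.inv_eq huE))⟩
    have := card_le_of_le hMf
    have hc1 : Nat.card (N ⊓ E : Subgroup G) = 1 := by rw [hP, card_bot]
    rw [hc1, mul_one] at hri
    omega
  · have hj' : j = 4 := by omega
    subst hj'
    have hKE : E ≤ K := inf_eq_right.mp (eq_of_le_of_card_ge inf_le_right (by rw [h16, hj]; norm_num))
    have him : (im hE ha).range ≤ N ⊓ E := by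
      rintro _ ⟨u, rfl⟩
      exact hcom u (Subgroup.mem_inf.mpr ⟨hKE u.2, u.2⟩)
    have h1 := card_le_of_le him
    have h2 := card_eq_fix_mul_im hE ha
    rw [h16] at h2
    nlinarith

/-- The configuration with `|C_G(E) : E| ≤ 2`. -/
theorem ext_two (h2 : IsPGroup 2 G) {E : Subgroup G} (hE : NormalElem E) (h8 : Nat.card E = 8)
    (hmax : ∀ L : Subgroup G, NormalElem L → Nat.card L ≤ 8) {q : G} (hq : q ∈ E)
    (P : G → Prop) (hP : ∃ b, P b) (hP2 : ∀ b, P b → b * b = 1)
    (him : ∀ b, P b → ∀ u ∈ E, u * (b * u * b) ∈ Subgroup.zpowers q)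
    (hcen : ∀ u ∈ E, (∀ g : G, g * u = u * g) → u ∈ Subgroup.zpowers q)
    (hx : ∀ x ∈ Subgroup.centralizer (E : Set G), x ∉ E → (∀ b, P b → dd b x ∈ E) →
      ∀ b, P b → dd b x ∉ Subgroup.zpowers q)
    (huniq : ∀ x ∈ Subgroup.centralizer (E : Set G), ∀ y ∈ Subgroup.centralizer (E : Set G),
      x ∉ E → y ∉ E → (∀ b, P b → dd b x ∈ E) → (∀ b, P b → dd b y ∈ E) → x * y ∈ E) :
    BoundBy G 16 := by
  haveI := hE.normal
  haveI : (Subgroup.centralizer (E : Set G)).Normal := Subgroup.normal_centralizer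
  apply finish h2 hE h8
  by_cases hCE : Subgroup.centralizer (E : Set G) = E
  · exact Or.inl hCE
  right
  have hlt : E < Subgroup.centralizer (E : Set G) := lt_of_le_of_ne hE.le_centralizer (Ne.symm hCE)
  obtain ⟨x0, hx0C, hx0E, hx0s, hx0c⟩ := exists_step h2 hlt
  have hx0d : ∀ b, P b → dd b x0 ∈ E := fun b hb => dd_mem_of_central hE.normal (hP2 b hb) hx0c
  have hcx : ∀ u ∈ E, u * x0 = x0 * u := fun u hu => mem_centralizer_iff.mp hx0C u hu
  have hsq : ∀ u ∈ E, u * x0 * (u * x0) = x0 * x0 := fun u hu => by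
    calc u * x0 * (u * x0) = u * (x0 * u) * x0 := by group
      _ = (u * u) * (x0 * x0) := by rw [← hcx u hu]; group
      _ = _ := by rw [hE.sq u hu, one_mul]
  have hqc' : ∀ g : G, g * (x0 * x0) = (x0 * x0) * g := by
    intro g
    have h1 : g * x0 * g⁻¹ = g * x0 * g⁻¹ * x0⁻¹ * x0 := by group
    have h2' : g * (x0 * x0) * g⁻¹ = x0 * x0 := by
      calc g * (x0 * x0) * g⁻¹ = (g * x0 * g⁻¹) * (g * x0 * g⁻¹) := by group
        _ = _ := by rw [h1]; exact hsq _ (hx0c g)
    exact mul_inv_eq_iff_eq_mul.mp h2'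
  have hqne : x0 * x0 ≠ 1 := by
    intro h
    have hb := hmax _ (step_elem hE h hx0c hx0C)
    rw [step_card hx0s hx0E, h8] at hb
    omega
  have hqq : x0 * x0 ∈ Subgroup.zpowers q := hcen _ hx0s hqc'
  have hqeq : x0 * x0 = q := by
    obtain ⟨i, hi⟩ := mem_zpowers_iff.mp hqq
    rcases Int.even_or_odd' i with ⟨t, rfl | rfl⟩
    · rw [zpow_mul, zpow_two, hE.sq q hq, one_zpow] at hi
      exact absurd hi.symm hqne
    · rw [zpow_add_one, zpow_mul, zpow_two, hE.sq q hq, one_zpow, one_mul] at hi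
      exact hi.symm
  obtain ⟨b, hb⟩ := hP
  refine ⟨x0, q, b, hP2 b hb, hq, hqeq ▸ hqne, hqeq ▸ hqc', hx0E, hqeq, ?_, him b hb,
    hx x0 hx0C hx0E hx0d b hb⟩
  by_contra hne
  haveI : (E ⊔ Subgroup.zpowers x0).Normal := step_normal hx0s hx0c
  have hlt2 : E ⊔ Subgroup.zpowers x0 < Subgroup.centralizer (E : Set G) :=
    lt_of_le_of_ne (sup_le hE.le_centralizer (zpowers_le.mpr hx0C)) (Ne.symm hne)
  obtain ⟨y, hyC, hyL, -, hyc⟩ := exists_step h2 hlt2
  have hyd : ∀ c, P c → dd c y ∈ E ⊔ Subgroup.zpowers x0 := fun c hc =>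
    dd_mem_of_central inferInstance (hP2 c hc) hyc
  by_cases hall : ∀ c, P c → dd c y ∈ E
  · have hyE : y ∉ E := fun h => hyL (mem_sup_left h)
    have h1 := huniq y hyC x0 hx0C hyE hx0E hall hx0d
    apply hyL
    have h3 := mul_mem (mem_sup_left (T := Subgroup.zpowers x0) h1)
      (mem_sup_right (S := E) (inv_mem (mem_zpowers x0)))
    simpa [mul_assoc] using h3
  · push_neg at hall
    obtain ⟨c, hc, hcE⟩ := hall
    rcases step_mem hx0s (hyd c hc) with h | ⟨n, hn, hxn⟩
    · exact hcE h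
    have hxC : dd c y ∈ Subgroup.centralizer (E : Set G) := by
      rw [hxn]; exact Subgroup.mul_mem _ (hE.le_centralizer hn) hx0C
    have hxd : ∀ d, P d → dd d (dd c y) ∈ E := fun d hd => by
      rw [hxn, dd_mul (hP2 d hd)]
      refine mul_mem ?_ (hx0d d hd)
      have h1 : dd d n ∈ E := mul_mem (inv_mem hn) (conj_inv_mem hE.normal (hP2 d hd) hn)
      simpa using Normal.conj_mem inferInstance (dd d n) h1 x0⁻¹
    apply hx _ hxC hcE hxd c hc
    have : dd c (dd c y) = ((dd c y) * (dd c y))⁻¹ := by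
      show (dd c y)⁻¹ * (c * dd c y * c) = _
      rw [dd_conj (hP2 c hc), mul_inv_rev]
    rw [this, hxn, hsq n hn]
    exact inv_mem hqq

end CfsgLib.LocalEvenB.SelfCentralEight.Common
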