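import Cfsg.Agent.Lib.LocalEvenB.SelfCentralEight.SelfNormalSixteen

/-!
A normal elementary subgroup meeting trivially a four-subgroup `B` of an elementary `T` of order 16,
with `C_G(b) ≤ T` for every involution `b` of `B`.
-/

set_option autoImplicit false

namespace CfsgLib.LocalEvenB.SelfCentralEight.DisjointFour

open Subgroup
open CfsgLib.LocalEvenB.SelfCentralEight.Sections CfsgLib.LocalEvenB.SelfCentralEight.Conj
open CfsgLib.LocalEvenB.SelfCentralEight.EightFinish CfsgLib.LocalEvenB.SelfCentralEight.Common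

variable {G : Type*} [Group G] [Finite G]

theorem main (h2 : IsPGroup 2 G) {T B E : Subgroup G} (hTc : ∀ x ∈ T, ∀ y ∈ T, x * y = y * x)
    (hT2 : ∀ x ∈ T, x * x = 1) (hT16 : Nat.card T = 16) (hBT : B ≤ T) (hB4 : Nat.card B = 4)
    (hb : ∀ b ∈ B, b ≠ 1 → Subgroup.centralizer ({b} : Set G) ≤ T) (hE : NormalElem E)
    (hE8 : 8 ≤ Nat.card E) (hmax : ∀ L : Subgroup G, NormalElem L → Nat.card L ≤ Nat.card E)
    (hdis : E ⊓ B = ⊥) : BoundBy G 16 := by
  haveI := hE.normal
  haveI : (Subgroup.centralizer (E : Set G)).Normal := Subgroup.normal_centralizer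
  set E0 : Subgroup G := E ⊓ T with hE0
  have hfix : ∀ b ∈ B, b ≠ 1 → E ⊓ Subgroup.centralizer ({b} : Set G) = E0 := by
    intro b hbB hb1
    ext u
    rw [mem_fix, hE0, Subgroup.mem_inf]
    exact ⟨fun h => ⟨h.1, hb b hbB hb1 (mem_centralizer_singleton_iff.mpr h.2)⟩,
      fun h => ⟨h.1, hTc u h.2 b (hBT hbB)⟩⟩
  let F : E0 × B → T := fun p => ⟨(p.1 : G) * p.2, mul_mem (Subgroup.mem_inf.mp p.1.2).2 (hBT p.2.2)⟩
  have hF : Function.Injective F := by
    rintro ⟨f, b⟩ ⟨f', b'⟩ h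
    have h' : (f : G) * b = f' * b' := congrArg Subtype.val h
    have hw : (f' : G)⁻¹ * f = b' * (b : G)⁻¹ := by
      calc (f' : G)⁻¹ * f = (f' : G)⁻¹ * (f * b) * (b : G)⁻¹ := by group
        _ = _ := by rw [h']; group
    have hmem : (b' : G) * (b : G)⁻¹ ∈ E ⊓ B := by
      refine Subgroup.mem_inf.mpr ⟨?_, B.mul_mem b'.2 (B.inv_mem b.2)⟩
      rw [← hw]
      exact E.mul_mem (E.inv_mem (Subgroup.mem_inf.mp f'.2).1) (Subgroup.mem_inf.mp f.2).1
    rw [hdis, Subgroup.mem_bot, mul_inv_eq_one] at hmem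
    rw [hmem] at h'
    exact Prod.ext (Subtype.ext (mul_right_cancel h')) (Subtype.ext hmem.symm)
  have hE0le : Nat.card E0 ≤ 4 := by
    have h1 := Nat.card_le_card_of_injective F hF
    rw [Nat.card_prod, hB4, hT16] at h1
    omega
  obtain ⟨b0, hb0, hb01⟩ : ∃ b ∈ B, b ≠ 1 := by
    by_contra! hc
    have : B = ⊥ := (eq_bot_iff_forall B).mpr hc
    rw [this, card_bot] at hB4
    omega
  have hsq := card_le_sq hE (hT2 b0 (hBT hb0))
  rw [hfix b0 hb0 hb01] at hsq
  have hE04 : Nat.card E0 = 4 := by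
    obtain ⟨i, hi⟩ := exists_pow_card h2 E0
    rw [hi] at hsq hE0le ⊢
    rcases i with _ | _ | _ | i
    · simp at hsq; omega
    · simp at hsq; omega
    · norm_num
    · have : 2 ^ 3 ≤ 2 ^ (i + 1 + 1 + 1) := Nat.pow_le_pow_right (by norm_num) (by omega)
      omega
  rw [hE04] at hsq
  have hsur : Function.Surjective F :=
    (Function.Injective.bijective_of_nat_card_le hF (by rw [Nat.card_prod, hE04, hB4, hT16])).2
  have hTdec : ∀ t ∈ T, ∃ e ∈ E, ∃ b ∈ B, t = e * b := fun t ht => by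
    obtain ⟨p, hp⟩ := hsur ⟨t, ht⟩
    exact ⟨p.1, (Subgroup.mem_inf.mp p.1.2).1, p.2, p.2.2, (congrArg Subtype.val hp).symm⟩
  have hL : ∀ b ∈ B, b ≠ 1 → ∀ hbb : b * b = 1, ∀ s : G, dd b s ∈ (im hE hbb).range →
      ∃ b' ∈ B, s * b' ∈ E := by
    intro b hbB hb1 hbb s hd
    obtain ⟨u, hu, hsu⟩ := adjust hE hbb hd
    obtain ⟨e, he, b', hb', heq⟩ := hTdec _ (hb b hbB hb1 (mem_centralizer_singleton_iff.mpr hsu))
    refine ⟨b', hb', ?_⟩
    have hs : s * b' = e * (b' * u⁻¹ * b') := by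
      rw [show s * b' = s * u * u⁻¹ * b' by group, heq]; group
    rw [hs]
    exact mul_mem he (conj_inv_mem hE.normal (hT2 b' (hBT hb')) (inv_mem hu))
  have hCB : ∀ b ∈ B, b ∈ Subgroup.centralizer (E : Set G) → b = 1 := by
    intro b hbB hbC
    by_contra hb1
    have h : E ≤ E0 := hfix b hbB hb1 ▸ fun u hu => mem_fix.mpr ⟨hu, mem_centralizer_iff.mp hbC u hu⟩
    have := card_le_of_le h
    omega
  have hCE : ∀ b ∈ B, b ≠ 1 → ∀ hbb : b * b = 1, ∀ c ∈ Subgroup.centralizer (E : Set G),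
      dd b c ∈ (im hE hbb).range → c ∈ E := by
    intro b hbB hb1 hbb c hc hd
    obtain ⟨b', hb', hcb⟩ := hL b hbB hb1 hbb c hd
    have h1 := Subgroup.mul_mem _ (Subgroup.inv_mem _ hc) (hE.le_centralizer hcb)
    rw [inv_mul_cancel_left] at h1
    rwa [hCB b' hb' h1, mul_one] at hcb
  obtain ⟨j, hj⟩ := exists_pow_card h2 E
  have hcases : Nat.card E = 8 ∨ Nat.card E = 16 := by
    rw [hj] at hsq hE8 ⊢
    rcases j with _ | _ | _ | _ | _ | j
    · omega
    · omega
    · omega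
    · exact Or.inl rfl
    · exact Or.inr rfl
    · have : 2 ^ 5 ≤ 2 ^ (j + 1 + 1 + 1 + 1 + 1) := Nat.pow_le_pow_right (by norm_num) (by omega)
      omega
  rcases hcases with h8 | h16
  · apply finish h2 hE h8
    by_cases hC : Subgroup.centralizer (E : Set G) = E
    · exact Or.inl hC
    right
    obtain ⟨x0, hx0C, hx0E, hx0s, hx0c⟩ := exists_step h2 (lt_of_le_of_ne hE.le_centralizer (Ne.symm hC))
    have hcx : ∀ u ∈ E, u * x0 = x0 * u := fun u hu => mem_centralizer_iff.mp hx0C u hu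
    have hsq0 : ∀ u ∈ E, u * x0 * (u * x0) = x0 * x0 := fun u hu => by
      calc u * x0 * (u * x0) = u * (x0 * u) * x0 := by group
        _ = (u * u) * (x0 * x0) := by rw [← hcx u hu]; group
        _ = _ := by rw [hE.sq u hu, one_mul]
    have hqc : ∀ g : G, g * (x0 * x0) = (x0 * x0) * g := by
      intro g
      have h1 : g * x0 * g⁻¹ = g * x0 * g⁻¹ * x0⁻¹ * x0 := by group
      have h2' : g * (x0 * x0) * g⁻¹ = x0 * x0 := by
        calc g * (x0 * x0) * g⁻¹ = (g * x0 * g⁻¹) * (g * x0 * g⁻¹) := by group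
          _ = _ := by rw [h1]; exact hsq0 _ (hx0c g)
      exact mul_inv_eq_iff_eq_mul.mp h2'
    have hqne : x0 * x0 ≠ 1 := by
      intro h
      have hb' := hmax _ (step_elem hE h hx0c hx0C)
      rw [step_card hx0s hx0E, h8] at hb'
      omega
    have hqE0 : x0 * x0 ∈ E0 := by
      rw [← hfix b0 hb0 hb01]
      exact mem_fix.mpr ⟨hx0s, (hqc b0).symm⟩
    obtain ⟨u0, hu0E, hu0⟩ : ∃ u ∈ E, u ∉ E0 := by
      by_contra! hc
      have := card_le_of_le (show E ≤ E0 from hc)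
      omega
    have hval : ∀ b : B, u0 * ((b : G) * u0 * b) ∈ E0 := fun b => by
      by_cases hb1 : (b : G) = 1
      · rw [hb1, one_mul, mul_one, hE.sq u0 hu0E]
        exact one_mem _
      · rw [← hfix b b.2 hb1]
        exact im_le_fix hE (hT2 b (hBT b.2)) ⟨⟨u0, hu0E⟩, rfl⟩
    let val : B → E0 := fun b => ⟨_, hval b⟩
    have hvinj : Function.Injective val := by
      intro b b' h
      have h1 : (b : G) * u0 * b = b' * u0 * b' := mul_left_cancel (congrArg Subtype.val h)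
      apply Subtype.ext
      by_contra hne
      have hbb := hT2 b (hBT b.2)
      have hbb' := hT2 b' (hBT b'.2)
      have hne' : (b' : G) * b ≠ 1 := fun h' => hne (by
        have := eq_inv_of_mul_eq_one_right h'
        rwa [inv_eq_of_mul_eq_one_right hbb'] at this)
      apply hu0
      rw [← hfix _ (B.mul_mem b'.2 b.2) hne']
      refine mem_fix.mpr ⟨hu0E, ?_⟩
      calc u0 * ((b' : G) * b) = (b' * b') * u0 * (b' * b) := by rw [hbb', one_mul]
        _ = b' * (b' * u0 * b') * b := by group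
        _ = b' * (b * u0 * b) * b := by rw [h1]
        _ = b' * b * u0 * (b * b) := by group
        _ = _ := by rw [hbb, mul_one]
    obtain ⟨bq, hbq⟩ := (Function.Injective.bijective_of_nat_card_le hvinj (by omega)).2 ⟨_, hqE0⟩
    have hbq' : u0 * ((bq : G) * u0 * bq) = x0 * x0 := congrArg Subtype.val hbq
    have hbb : (bq : G) * bq = 1 := hT2 _ (hBT bq.2)
    have hbq1 : (bq : G) ≠ 1 := fun h => hqne (by rw [← hbq', h, one_mul, mul_one, hE.sq u0 hu0E])
    have hran : (im hE hbb).range = Subgroup.zpowers (x0 * x0) := by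
      refine (eq_of_le_of_card_ge (zpowers_le.mpr (MonoidHom.mem_range.mpr ⟨⟨u0, hu0E⟩, hbq'⟩)) ?_).symm
      have h1 := card_eq_fix_mul_im hE hbb
      rw [hfix _ bq.2 hbq1, hE04, h8] at h1
      rw [Nat.card_zpowers, orderOf_eq_prime ((pow_two _).trans (hE.sq _ hx0s)) hqne]
      omega
    have hdx : dd (bq : G) x0 ∉ Subgroup.zpowers (x0 * x0) := fun h =>
      hx0E (hCE _ bq.2 hbq1 hbb x0 hx0C (hran ▸ h))
    refine ⟨x0, x0 * x0, bq, hbb, hx0s, hqne, hqc, hx0E, rfl, ?_,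
      fun u hu => hran ▸ ⟨⟨u, hu⟩, rfl⟩, hdx⟩
    by_contra hne
    haveI : (E ⊔ Subgroup.zpowers x0).Normal := step_normal hx0s hx0c
    obtain ⟨y, hyC, hyL, -, hyc⟩ := exists_step h2 (lt_of_le_of_ne
      (sup_le hE.le_centralizer (zpowers_le.mpr hx0C)) (Ne.symm hne))
    have hyd : dd (bq : G) y ∈ E ⊔ Subgroup.zpowers x0 := dd_mem_of_central inferInstance hbb hyc
    have hdE0 : ∀ s, dd (bq : G) s ∈ E → dd (bq : G) s ∈ E0 := fun s h =>
      hfix _ bq.2 hbq1 ▸ mem_fix.mpr ⟨h, dd_fixed hE hbb h⟩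
    have hidx : ((im hE hbb).range.subgroupOf E0).index = 2 := by
      have hle : (im hE hbb).range ≤ E0 := hfix _ bq.2 hbq1 ▸ im_le_fix hE hbb
      have h := relIndex_mul_card hle
      rw [hE04, hran, Nat.card_zpowers, orderOf_eq_prime ((pow_two _).trans (hE.sq _ hx0s)) hqne] at h
      show (im hE hbb).range.relIndex E0 = 2
      rw [hran]
      omega
    rcases step_mem hx0s hyd with hE' | ⟨n, hn, hyn⟩
    · have hyE : y ∉ E := fun h => hyL (mem_sup_left h)
      have hx0d : dd (bq : G) x0 ∈ E := dd_mem_of_central hE.normal hbb hx0c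
      have hprod : dd (bq : G) (y * x0) = dd (bq : G) y * dd (bq : G) x0 := by
        rw [dd_mul hbb, mul_assoc x0⁻¹ (dd (bq : G) y) x0, hcx _ hE', ← mul_assoc, inv_mul_cancel, one_mul]
      have hmem : y * x0 ∈ E := hCE _ bq.2 hbq1 hbb _ (Subgroup.mul_mem _ hyC hx0C) (by
        rw [hprod]
        exact (mul_mem_iff_of_index_two hidx (a := ⟨_, hdE0 _ hE'⟩) (b := ⟨_, hdE0 _ hx0d⟩)).mpr
          (iff_of_false (fun h => hyE (hCE _ bq.2 hbq1 hbb y hyC h))
            (fun h => hx0E (hCE _ bq.2 hbq1 hbb x0 hx0C h))))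
      apply hyL
      have h3 := mul_mem (mem_sup_left (T := Subgroup.zpowers x0) hmem)
        (mem_sup_right (S := E) (inv_mem (mem_zpowers x0)))
      simpa [mul_assoc] using h3
    · apply hdx
      have h1 : dd (bq : G) (dd (bq : G) y) = ((dd (bq : G) y) * (dd (bq : G) y))⁻¹ := by
        show (dd (bq : G) y)⁻¹ * ((bq : G) * dd (bq : G) y * bq) = _
        rw [dd_conj hbb, mul_inv_rev]
      rw [hyn, hsq0 n hn, dd_mul hbb] at h1
      have h2' : dd (bq : G) n ∈ Subgroup.zpowers (x0 * x0) := by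
        rw [dd, hE.inv_eq hn, ← hran]
        exact ⟨⟨n, hn⟩, rfl⟩
      have h3 : x0⁻¹ * dd (bq : G) n * x0 = dd (bq : G) n := by
        obtain ⟨i, hi⟩ := mem_zpowers_iff.mp h2'
        rw [← hi, mul_assoc, hcx _ (zpow_mem hx0s i), inv_mul_cancel_left]
      rw [h3] at h1
      rw [eq_inv_mul_of_mul_eq h1]
      exact mul_mem (inv_mem h2') (inv_mem (mem_zpowers _))
  · have himF : ∀ b ∈ B, b ≠ 1 → ∀ hbb : b * b = 1, ∀ s, dd b s ∈ E → dd b s ∈ (im hE hbb).range := by
      intro b hbB hb1 hbb s hs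
      have h1 := card_eq_fix_mul_im hE hbb
      have hle := im_le_fix hE hbb
      rw [hfix b hbB hb1] at h1 hle
      rw [hE04, h16] at h1
      rw [eq_of_le_of_card_ge hle (by omega), ← hfix b hbB hb1]
      exact mem_fix.mpr ⟨hs, dd_fixed hE hbb hs⟩
    have hb00 := hT2 b0 (hBT hb0)
    have hCEeq : Subgroup.centralizer (E : Set G) = E := by
      by_contra hne
      obtain ⟨c, hcC, hcE, -, hcc⟩ := exists_step h2 (lt_of_le_of_ne hE.le_centralizer (Ne.symm hne))
      exact hcE (hCE b0 hb0 hb01 hb00 c hcC (himF b0 hb0 hb01 hb00 c (dd_mem_of_central hE.normal hb00 hcc)))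
    have hb0E : b0 ∉ E := fun h => hb01 (by
      have : b0 ∈ E ⊓ B := Subgroup.mem_inf.mpr ⟨h, hb0⟩
      rwa [hdis, Subgroup.mem_bot] at this)
    have hlift : ∀ s : G, dd b0 s ∈ E → ∃ b' ∈ B, s * b' ∈ E := fun s hs =>
      hL b0 hb0 hb01 hb00 s (himF b0 hb0 hb01 hb00 s hs)
    have hX : BoundBy (G ⧸ E) 4 := by
      refine boundBy_four (h2.to_quotient E) (a := QuotientGroup.mk' E b0)
        (orderOf_eq_prime (by rw [← map_pow, pow_two, hb00, map_one])
          (fun h => hb0E ((QuotientGroup.eq_one_iff b0).mp h))) ?_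
      have hsub : Subgroup.centralizer ({QuotientGroup.mk' E b0} : Set (G ⧸ E)) ≤ B.map (QuotientGroup.mk' E) := by
        intro x hx
        obtain ⟨s, rfl⟩ := QuotientGroup.mk'_surjective E x
        obtain ⟨b', hb', hsb⟩ := hlift s ((mk_comm_iff hb00).mp (mem_centralizer_singleton_iff.mp hx))
        refine ⟨b', hb', ?_⟩
        have h1 : QuotientGroup.mk' E (s * b') = 1 := (QuotientGroup.eq_one_iff (s * b')).mpr hsb
        rw [map_mul] at h1
        rw [eq_inv_of_mul_eq_one_left h1]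
        exact (inv_eq_of_mul_eq_one_right (by rw [← map_mul, hT2 b' (hBT hb'), map_one])).symm
      refine le_trans (card_le_of_le hsub) ?_
      have h := card_eq_inf_mul_map (QuotientGroup.mk' E) B
      rw [QuotientGroup.ker_mk', inf_comm, hdis, card_bot, hB4, one_mul] at h
      omega
    intro K N hKN
    rw [relIndex_split (QuotientGroup.mk' E) hKN.1, QuotientGroup.ker_mk']
    have hX4 := hX _ _ (hKN.map (QuotientGroup.mk' E))
    have hle := relIndex_le_card (inf_le_inf_right E hKN.1)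
    have hle2 : Nat.card (K ⊓ E : Subgroup G) ≤ 16 := h16 ▸ card_le_of_le inf_le_right
    rcases Nat.lt_or_ge ((N.map (QuotientGroup.mk' E)).relIndex (K.map (QuotientGroup.mk' E))) 2 with h | hX2
    · calc _ ≤ 16 * 1 := Nat.mul_le_mul (by omega) (by omega)
        _ = 16 := rfl
    rcases Nat.lt_or_ge ((N ⊓ E).relIndex (K ⊓ E)) 5 with h | hE5
    · calc _ ≤ 4 * 4 := Nat.mul_le_mul (by omega) hX4
        _ = 16 := rfl
    rcases Nat.lt_or_ge ((N.map (QuotientGroup.mk' E)).relIndex (K.map (QuotientGroup.mk' E))) 3 with h | hX3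
    · obtain ⟨m, hm⟩ := exists_pow_relIndex h2 (N ⊓ E) (K ⊓ E)
      rcases Nat.lt_or_ge ((N ⊓ E).relIndex (K ⊓ E)) 9 with h' | h'
      · calc _ ≤ 8 * 2 := Nat.mul_le_mul (by omega) (by omega)
          _ = 16 := rfl
      exfalso
      have hm16 : (N ⊓ E).relIndex (K ⊓ E) = 16 := by
        rw [hm] at h' hle ⊢
        rcases m with _ | _ | _ | _ | m
        · omega
        · omega
        · omega
        · omega
        · have : 2 ^ 4 ≤ 2 ^ (m + 1 + 1 + 1 + 1) := Nat.pow_le_pow_right (by norm_num) (by omega)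
          omega
      have hP := eq_bot_of_relIndex_eq (inf_le_inf_right E hKN.1) (by omega)
      have hKE : E ≤ K := inf_eq_right.mp (eq_of_le_of_card_ge inf_le_right (by rw [h16]; omega))
      have hKle : K ≤ E := by
        intro k hk
        refine hCEeq ▸ mem_centralizer_iff.mpr fun u hu => ?_
        have h1 : k * u * k⁻¹ * u⁻¹ ∈ N ⊓ E := Subgroup.mem_inf.mpr ⟨hKN.comm_mem hk (hKE hu),
          E.mul_mem (hE.normal.conj_mem u hu k) (E.inv_mem hu)⟩
        rw [hP, Subgroup.mem_bot, mul_inv_eq_one, mul_inv_eq_iff_eq_mul] at h1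
        exact h1.symm
      rw [show K.map (QuotientGroup.mk' E) = ⊥ by
        rw [Subgroup.map_eq_bot_iff, QuotientGroup.ker_mk']; exact hKle, relIndex_bot_right] at hX2
      omega
    exfalso
    obtain ⟨zb, -, hzbo, hzbc⟩ := CfsgLib.TwoGroups.Classify.exists_central_involution (h2.to_quotient E)
      (⊤ : Subgroup (G ⧸ E)) (fun e => hb0E ((QuotientGroup.eq_one_iff b0).mp (Subgroup.mem_bot.mp (e ▸ mem_top _))))
    have hzK := central_mem hX (hKN.map (QuotientGroup.mk' E)) (by omega)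
      (by rw [← pow_two, ← hzbo, pow_orderOf_eq_one]) hzbc
    obtain ⟨k, hk, hkz⟩ := Subgroup.mem_map.mp hzK
    obtain ⟨b', hb', hkb⟩ := hlift k (dd_mem_of_central hE.normal hb00 (mk_mem_center (hkz ▸ hzbc)))
    have hb'1 : b' ≠ 1 := fun h => by
      rw [h, mul_one] at hkb
      rw [show QuotientGroup.mk' E k = 1 from (QuotientGroup.eq_one_iff k).mpr hkb] at hkz
      simp [← hkz] at hzbo
    refine no_thick hE h16 hKN hE5 hk (hT2 b' (hBT hb')) ((hfix b' hb' hb'1).symm ▸ hE0le) ?_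
    have h1 := hE.normal.conj_mem _ (inv_mem hkb) k⁻¹
    rw [mul_inv_rev, inv_eq_of_mul_eq_one_right (hT2 b' (hBT hb'))] at h1
    have h1' := hE.normal.conj_mem _ hkb k⁻¹
    have h2' := inv_mem h1'
    have e : (k⁻¹ * (k * b') * k⁻¹⁻¹)⁻¹ = k⁻¹ * b' := by
      rw [inv_inv, inv_mul_cancel_left, mul_inv_rev, inv_eq_of_mul_eq_one_right (hT2 b' (hBT hb'))]
    rwa [e] at h2'

end CfsgLib.LocalEvenB.SelfCentralEight.DisjointFour
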