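import Cfsg.Agent.Lib.LocalEvenB.SelfCentralEight.Conj

/-!
Sections of a 2-group with a normal elementary abelian subgroup of order 8.
-/

set_option autoImplicit false

namespace CfsgLib.LocalEvenB.SelfCentralEight.EightFinish

open Subgroup
open CfsgLib.LocalEvenB.SelfCentralEight.Sections CfsgLib.LocalEvenB.SelfCentralEight.Conj

variable {G : Type*} [Group G] [Finite G]

/-- A basis adapted to a central element `q` of a normal elementary subgroup of order 8. -/
theorem exists_basis (h2 : IsPGroup 2 G) {E : Subgroup G} (hE : NormalElem E) (h8 : Nat.card E = 8)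
    {q : G} (hq : q ∈ E) (hq1 : q ≠ 1) (hqc : ∀ g : G, g * q = q * g) :
    ∃ e1 ∈ E, ∃ e2 ∈ E,
      (∀ g : G, g * e1 * g⁻¹ * e1⁻¹ ∈ Subgroup.zpowers q) ∧ e1 ∉ Subgroup.zpowers q ∧
      (∀ g : G, g * e2 * g⁻¹ * e2⁻¹ ∈ Subgroup.zpowers q ⊔ Subgroup.zpowers e1) ∧
      Nat.card (Subgroup.zpowers q ⊔ Subgroup.zpowers e1 : Subgroup G) = 4 ∧
      (∀ c : G, c * e1 * c⁻¹ = e1 → c * e2 * c⁻¹ = e2 → c ∈ Subgroup.centralizer (E : Set G)) := by
  haveI := hE.normal
  have hcen : q ∈ Subgroup.center G := mem_center_iff.mpr hqc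
  haveI := CfsgLib.TwoGroups.Classify.normal_zpowers_of_central hcen
  have hq2 : Nat.card (Subgroup.zpowers q) = 2 := by
    rw [Nat.card_zpowers]
    exact orderOf_eq_prime ((pow_two q).trans (hE.sq q hq)) hq1
  have hlt : Subgroup.zpowers q < E := lt_of_le_of_ne (zpowers_le.mpr hq) (fun e => by
    rw [← e] at h8; omega)
  obtain ⟨e1, he1, he1n, he1s, he1c⟩ := exists_step h2 hlt
  haveI : (Subgroup.zpowers q ⊔ Subgroup.zpowers e1).Normal := step_normal he1s he1c
  have hW : Nat.card (Subgroup.zpowers q ⊔ Subgroup.zpowers e1 : Subgroup G) = 4 := by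
    rw [step_card he1s he1n, hq2]
  have hWE : Subgroup.zpowers q ⊔ Subgroup.zpowers e1 ≤ E := sup_le (zpowers_le.mpr hq) (zpowers_le.mpr he1)
  have hlt2 : Subgroup.zpowers q ⊔ Subgroup.zpowers e1 < E := lt_of_le_of_ne hWE (fun e => by
    rw [e, h8] at hW; omega)
  obtain ⟨e2, he2, he2n, he2s, he2c⟩ := exists_step h2 hlt2
  refine ⟨e1, he1, e2, he2, he1c, he1n, he2c, hW, fun c h1 h2' => ?_⟩
  have htop : (Subgroup.zpowers q ⊔ Subgroup.zpowers e1) ⊔ Subgroup.zpowers e2 = E := by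
    refine eq_of_le_of_card_ge (sup_le hWE (zpowers_le.mpr he2)) ?_
    rw [step_card he2s he2n, hW, h8]
  have hle : E ≤ Subgroup.centralizer ({c} : Set G) := by
    conv_lhs => rw [← htop]
    refine sup_le (sup_le ?_ ?_) ?_ <;> rw [zpowers_le, mem_centralizer_singleton_iff]
    · exact (hqc c).symm
    · exact (mul_inv_eq_iff_eq_mul.mp h1).symm
    · exact (mul_inv_eq_iff_eq_mul.mp h2').symm
  exact mem_centralizer_iff.mpr fun u hu => mem_centralizer_singleton_iff.mp (hle hu)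

theorem eq_of_conj {E : Subgroup G} {k b e : G} (he : e ∈ E)
    (hc : k⁻¹ * b ∈ Subgroup.centralizer (E : Set G)) : k * e * k⁻¹ = b * e * b⁻¹ := by
  have h := mem_centralizer_iff.mp hc e he
  calc k * e * k⁻¹ = k * (e * (k⁻¹ * b)) * b⁻¹ := by group
    _ = k * ((k⁻¹ * b) * e) * b⁻¹ := by rw [h]
    _ = _ := by group

theorem mem_of_conj_eq {E : Subgroup G} {k b e1 e2 : G}
    (hgen : ∀ c : G, c * e1 * c⁻¹ = e1 → c * e2 * c⁻¹ = e2 → c ∈ Subgroup.centralizer (E : Set G))
    (h1 : k * e1 * k⁻¹ = b * e1 * b⁻¹) (h2 : k * e2 * k⁻¹ = b * e2 * b⁻¹) :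
    k⁻¹ * b ∈ Subgroup.centralizer (E : Set G) := by
  have h : ∀ e : G, k * e * k⁻¹ = b * e * b⁻¹ → k⁻¹ * b * e * (k⁻¹ * b)⁻¹ = e := by
    intro e he
    calc k⁻¹ * b * e * (k⁻¹ * b)⁻¹ = k⁻¹ * (b * e * b⁻¹) * k := by group
      _ = e := by rw [← he]; group
  exact hgen _ (h e1 h1) (h e2 h2)

theorem comm_eq {k b e : G} (h : k * e * k⁻¹ * e⁻¹ = b * e * b⁻¹ * e⁻¹) : k * e * k⁻¹ = b * e * b⁻¹ :=
  mul_right_cancel h

/-- The group induced on a normal elementary subgroup of order 8 has sections of order at most 4. -/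
theorem boundBy_quot (h2 : IsPGroup 2 G) {E : Subgroup G} (hE : NormalElem E) (h8 : Nat.card E = 8)
    [(Subgroup.centralizer (E : Set G)).Normal] :
    BoundBy (G ⧸ Subgroup.centralizer (E : Set G)) 4 := by
  haveI := hE.normal
  have hne : E ≠ ⊥ := fun e => by rw [e, card_bot] at h8; omega
  obtain ⟨z, hz, hz2, hzc⟩ := CfsgLib.TwoGroups.Classify.exists_central_involution h2 E hne
  have hz1 : z ≠ 1 := fun e => by simp [e] at hz2
  obtain ⟨e1, he1, e2, he2, hc1, hn1, hc2, hW, hgen⟩ :=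
    exists_basis h2 hE h8 hz hz1 (mem_center_iff.mp hzc)
  set C := Subgroup.centralizer (E : Set G) with hCdef
  let Φ : (G ⧸ C) → Subgroup.zpowers z × (Subgroup.zpowers z ⊔ Subgroup.zpowers e1 : Subgroup G) :=
    fun y => (⟨y.out * e1 * y.out⁻¹ * e1⁻¹, hc1 _⟩, ⟨y.out * e2 * y.out⁻¹ * e2⁻¹, hc2 _⟩)
  have hinj : Function.Injective Φ := by
    intro y y' hyy
    have h1 := congrArg (fun p => (p.1 : G)) hyy
    have h2' := congrArg (fun p => (p.2 : G)) hyy
    rw [← QuotientGroup.out_eq' y, ← QuotientGroup.out_eq' y', QuotientGroup.eq]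
    exact mem_of_conj_eq hgen (comm_eq h1) (comm_eq h2')
  have hcard : Nat.card (Subgroup.zpowers z × (Subgroup.zpowers z ⊔ Subgroup.zpowers e1 : Subgroup G)) = 8 := by
    rw [Nat.card_prod, hW, Nat.card_zpowers, hz2]
  intro K N hKN
  by_contra hgt
  obtain ⟨n, hn⟩ := exists_pow_relIndex (h2.to_quotient C) N K
  have h3 : 8 ≤ N.relIndex K := by
    rw [hn] at hgt ⊢
    rcases n with _ | _ | _ | n
    · omega
    · omega
    · omega
    · exact le_trans (le_of_eq (by norm_num)) (Nat.pow_le_pow_right (by norm_num) (show 3 ≤ n + 1 + 1 + 1 by omega))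
  have hG8 : Nat.card (G ⧸ C) ≤ 8 := hcard ▸ Nat.card_le_card_of_injective Φ hinj
  have hK8 : Nat.card K ≤ Nat.card (G ⧸ C) := card_le_card_group K
  have hri := relIndex_le_card hKN.1
  have hN : N = ⊥ := eq_bot_of_relIndex_eq hKN.1 (by omega)
  have hK : K = ⊤ := eq_top_of_card_eq K (by
    have h4 := card_le_card_group K
    have h5 := Nat.card_le_card_of_injective Φ hinj
    have e : Nat.card (G ⧸ C) = Nat.card (G ⧸ Subgroup.centralizer (E : Set G)) := rfl
    omega)
  have hcomm : ∀ g h : G, ∃ c ∈ C, g * h = h * g * c := by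
    intro g h
    have := hKN.comm_mem (hK ▸ mem_top (QuotientGroup.mk g : G ⧸ C))
      (hK ▸ mem_top (QuotientGroup.mk h : G ⧸ C))
    rw [hN, Subgroup.mem_bot, mul_inv_eq_one, mul_inv_eq_iff_eq_mul, ← QuotientGroup.mk_mul,
      ← QuotientGroup.mk_mul, QuotientGroup.eq] at this
    exact ⟨(h * g)⁻¹ * (g * h), by simpa using inv_mem this, by group⟩
  have hsurj : Function.Surjective Φ := by
    have : Fintype (G ⧸ C) := Fintype.ofFinite _
    exact (Function.Injective.bijective_of_nat_card_le hinj (by omega)).2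
  obtain ⟨y1, hy1⟩ := hsurj (⟨z, mem_zpowers z⟩, 1)
  obtain ⟨y2, hy2⟩ := hsurj (1, ⟨e1, mem_sup_right (mem_zpowers e1)⟩)
  have a1 : y1.out * e1 * y1.out⁻¹ = z * e1 := mul_inv_eq_iff_eq_mul.mp (congrArg (fun p => (p.1 : G)) hy1)
  have a2 : y1.out * e2 * y1.out⁻¹ = e2 := by
    have := mul_inv_eq_iff_eq_mul.mp (congrArg (fun p => (p.2 : G)) hy1)
    simpa using this
  have b2 : y2.out * e2 * y2.out⁻¹ = e1 * e2 := mul_inv_eq_iff_eq_mul.mp (congrArg (fun p => (p.2 : G)) hy2)
  obtain ⟨c, hc, hgh⟩ := hcomm y1.out y2.out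
  have h12 : y1.out * y2.out * e2 * (y1.out * y2.out)⁻¹ = z * e1 * e2 := by
    calc y1.out * y2.out * e2 * (y1.out * y2.out)⁻¹
        = y1.out * (y2.out * e2 * y2.out⁻¹) * y1.out⁻¹ := by group
      _ = (y1.out * e1 * y1.out⁻¹) * (y1.out * e2 * y1.out⁻¹) := by rw [b2]; group
      _ = _ := by rw [a1, a2]
  have h21 : y1.out * y2.out * e2 * (y1.out * y2.out)⁻¹ = e1 * e2 := by
    rw [hgh]
    calc y2.out * y1.out * c * e2 * (y2.out * y1.out * c)⁻¹
        = y2.out * y1.out * (c * e2) * c⁻¹ * y1.out⁻¹ * y2.out⁻¹ := by group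
      _ = y2.out * y1.out * (e2 * c) * c⁻¹ * y1.out⁻¹ * y2.out⁻¹ := by
          rw [mem_centralizer_iff.mp hc e2 he2]
      _ = y2.out * (y1.out * e2 * y1.out⁻¹) * y2.out⁻¹ := by group
      _ = _ := by rw [a2, b2]
  rw [h12, mul_assoc] at h21
  exact hz1 (mul_eq_right.mp h21)

/-- The final counting when the centraliser of `E` is `E` or a cyclic-by-elementary extension of order 16. -/
theorem finish (h2 : IsPGroup 2 G) {E : Subgroup G} (hE : NormalElem E) (h8 : Nat.card E = 8)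
    (hC : Subgroup.centralizer (E : Set G) = E ∨ ∃ x q b : G, b * b = 1 ∧ q ∈ E ∧ q ≠ 1 ∧
      (∀ g : G, g * q = q * g) ∧ x ∉ E ∧ x * x = q ∧
      Subgroup.centralizer (E : Set G) = E ⊔ Subgroup.zpowers x ∧
      (∀ u ∈ E, u * (b * u * b) ∈ Subgroup.zpowers q) ∧ dd b x ∉ Subgroup.zpowers q) :
    BoundBy G 16 := by
  haveI := hE.normal
  haveI : (Subgroup.centralizer (E : Set G)).Normal := Subgroup.normal_centralizer
  intro K N hKN
  set C := Subgroup.centralizer (E : Set G) with hCdef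
  have hEC : E ≤ C := hE.le_centralizer
  rw [relIndex_split (QuotientGroup.mk' C) hKN.1, QuotientGroup.ker_mk']
  have hX : (N.map (QuotientGroup.mk' C)).relIndex (K.map (QuotientGroup.mk' C)) ≤ 4 :=
    boundBy_quot h2 hE h8 _ _ (hKN.map _)
  have hMC : (N ⊓ C).relIndex (K ⊓ C) ≤ 8 := by
    rcases hC with hC | ⟨x, q, b, hb, hq, hq1, hqc, hxE, hxx, hCx, him, hdx⟩
    · exact le_trans (relIndex_le_card (inf_le_inf_right C hKN.1))
        (le_trans (card_le_of_le inf_le_right) (by rw [hC, h8]))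
    · have hC16 : Nat.card C = 16 := by
        rw [hCx, step_card (by rw [hxx]; exact hq) hxE, h8]
      have hri := relIndex_mul_card (inf_le_inf_right C hKN.1)
      rcases Nat.lt_or_ge (Nat.card (K ⊓ C : Subgroup G)) 16 with hlt | hge
      · obtain ⟨j, hj⟩ := exists_pow_card h2 (K ⊓ C)
        have hj3 : j ≤ 3 := by
          by_contra hj3
          have : 2 ^ 4 ≤ 2 ^ j := Nat.pow_le_pow_right (by norm_num) (by omega)
          omega
        refine le_trans (relIndex_le_card (inf_le_inf_right C hKN.1)) ?_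
        rw [hj]
        exact le_trans (Nat.pow_le_pow_right (by norm_num) hj3) (by norm_num)
      · have hKC : K ⊓ C = C := eq_of_le_of_card_ge inf_le_right (by omega)
        have hxC : x ∈ C := by rw [hCx]; exact mem_sup_right (mem_zpowers x)
        have hxK : x ∈ K := (inf_eq_right.mp hKC) hxC
        have hqN : q ∈ N ⊓ C := ⟨hxx ▸ hKN.2 x hxK, hEC hq⟩
        have h2N : 2 ≤ Nat.card (N ⊓ C : Subgroup G) := by
          rw [Nat.succ_le_iff, one_lt_card_iff_ne_bot]
          intro e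
          rw [e] at hqN
          exact hq1 (Subgroup.mem_bot.mp hqN)
        have hcardKC : Nat.card (K ⊓ C : Subgroup G) = 16 := by rw [hKC]; exact hC16
        rw [hcardKC] at hri
        nlinarith
  rcases Nat.lt_or_ge ((N.map (QuotientGroup.mk' C)).relIndex (K.map (QuotientGroup.mk' C))) 3 with hX2 | hX4
  · calc _ ≤ 8 * 2 := Nat.mul_le_mul hMC (by omega)
      _ = 16 := rfl
  rcases Nat.lt_or_ge ((N ⊓ C).relIndex (K ⊓ C)) 5 with hM4 | hM8
  · calc _ ≤ 4 * 4 := Nat.mul_le_mul (by omega) hX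
      _ = 16 := rfl
  exfalso
  have hKnot : ¬ K ≤ C := fun hle => by
    have hmap : K.map (QuotientGroup.mk' C) = ⊥ := by
      rw [Subgroup.map_eq_bot_iff, QuotientGroup.ker_mk']; exact hle
    rw [hmap, relIndex_bot_right] at hX4
    omega
  have hcom : ∀ k ∈ K, ∀ m ∈ K ⊓ C, k * m * k⁻¹ * m⁻¹ ∈ N ⊓ C := fun k hk m hm => by
    obtain ⟨hmK, hmC⟩ := Subgroup.mem_inf.mp hm
    exact Subgroup.mem_inf.mpr ⟨hKN.comm_mem hk hmK,
      C.mul_mem (Subgroup.Normal.conj_mem inferInstance m hmC k) (C.inv_mem hmC)⟩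
  have hpow : ∃ n, (N ⊓ C).relIndex (K ⊓ C) = 2 ^ n := exists_pow_relIndex h2 _ _
  obtain ⟨n, hn⟩ := hpow
  have hM8' : (N ⊓ C).relIndex (K ⊓ C) = 8 := by
    rw [hn] at hM8 hMC ⊢
    rcases n with _ | _ | _ | _ | n
    · omega
    · omega
    · omega
    · norm_num
    · have : 2 ^ 4 ≤ 2 ^ (n + 1 + 1 + 1 + 1) := Nat.pow_le_pow_right (by norm_num) (by omega)
      omega
  have hri := relIndex_mul_card (inf_le_inf_right C hKN.1)
  rw [hM8'] at hri
  have hEin : E ≤ K ⊓ C → N ⊓ C = ⊥ → False := fun hEM hP => by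
    refine hKnot fun k hk => mem_centralizer_iff.mpr fun u hu => ?_
    have := hcom k hk u (hEM hu)
    rw [hP, Subgroup.mem_bot, mul_inv_eq_one, mul_inv_eq_iff_eq_mul] at this
    exact this.symm
  rcases hC with hC | ⟨x, q, b, hb, hq, hq1, hqc, hxE, hxx, hCx, him, hdx⟩
  · have h1 : Nat.card (K ⊓ C : Subgroup G) ≤ 8 := le_trans (card_le_of_le inf_le_right) (by rw [hC, h8])
    have hP1 : Nat.card (N ⊓ C : Subgroup G) = 1 := by
      have : 0 < Nat.card (N ⊓ C : Subgroup G) := Nat.card_pos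
      omega
    refine hEin ?_ (eq_bot_of_card_eq _ hP1)
    rw [eq_of_le_of_card_ge inf_le_right (show Nat.card C ≤ Nat.card (K ⊓ C : Subgroup G) from
      le_trans (le_of_eq (by rw [hC, h8] : Nat.card C = 8)) (by omega))]
    exact hEC
  · have hxx' : x * x ∈ E := by rw [hxx]; exact hq
    have hC16 : Nat.card C = 16 := by rw [hCx, step_card hxx' hxE, h8]
    have hxC : x ∈ C := by rw [hCx]; exact mem_sup_right (mem_zpowers x)
    have hcx : ∀ u ∈ E, u * x = x * u := fun u hu => mem_centralizer_iff.mp hxC u hu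
    have hsqC : ∀ c ∈ C, c ∉ E → c * c = q := by
      intro c hc hcE
      rw [hCx] at hc
      rcases step_mem hxx' hc with h | ⟨u, hu, rfl⟩
      · exact absurd h hcE
      · calc u * x * (u * x) = u * (x * u) * x := by group
          _ = (u * u) * (x * x) := by rw [← hcx u hu]; group
          _ = q := by rw [hE.sq u hu, one_mul, hxx]
    rcases Nat.lt_or_ge (Nat.card (N ⊓ C : Subgroup G)) 2 with hP | hP
    · have hP1 : Nat.card (N ⊓ C : Subgroup G) = 1 := by
        have : 0 < Nat.card (N ⊓ C : Subgroup G) := Nat.card_pos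
        omega
      have hPb := eq_bot_of_card_eq _ hP1
      have hMle : K ⊓ C ≤ E := by
        intro c hc
        by_contra hcE
        have h1 := (hKN.inf C).2 c hc
        rw [hPb, Subgroup.mem_bot, hsqC c hc.2 hcE] at h1
        exact hq1 h1
      exact hEin (eq_of_le_of_card_ge hMle (by omega)).ge hPb
    · have hKC : K ⊓ C = C := eq_of_le_of_card_ge inf_le_right (by omega)
      have hCK : C ≤ K := inf_eq_right.mp hKC
      have hqP : q ∈ N ⊓ C := ⟨hxx ▸ hKN.2 x (hCK hxC), hEC hq⟩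
      have hP2 : N ⊓ C = Subgroup.zpowers q := by
        refine (eq_of_le_of_card_ge (zpowers_le.mpr hqP) ?_).symm
        have hM16 : Nat.card (K ⊓ C : Subgroup G) = 16 := by rw [hKC]; exact hC16
        rw [Nat.card_zpowers, orderOf_eq_prime ((pow_two q).trans (hE.sq q hq)) hq1]
        omega
      obtain ⟨e1, he1, e2, he2, -, -, -, -, hgen⟩ := exists_basis h2 hE h8 hq hq1 hqc
      have hKe : ∀ k ∈ K, ∀ e ∈ E, k * e * k⁻¹ * e⁻¹ ∈ Subgroup.zpowers q := fun k hk e he =>
        hP2 ▸ hcom k hk e ⟨hCK (hEC he), hEC he⟩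
      have hrep : ∀ y : K.map (QuotientGroup.mk' C), ∃ k ∈ K, QuotientGroup.mk' C k = (y : G ⧸ C) :=
        fun y => y.2
      choose r hrK hr using hrep
      let Ψ : K.map (QuotientGroup.mk' C) → Subgroup.zpowers q × Subgroup.zpowers q :=
        fun y => (⟨r y * e1 * (r y)⁻¹ * e1⁻¹, hKe _ (hrK y) e1 he1⟩,
          ⟨r y * e2 * (r y)⁻¹ * e2⁻¹, hKe _ (hrK y) e2 he2⟩)
      have hinj : Function.Injective Ψ := by
        intro y y' hyy
        apply Subtype.ext
        rw [← hr y, ← hr y', QuotientGroup.mk'_apply, QuotientGroup.mk'_apply, QuotientGroup.eq]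
        exact mem_of_conj_eq hgen (comm_eq (congrArg (fun p => (p.1 : G)) hyy))
          (comm_eq (congrArg (fun p => (p.2 : G)) hyy))
      have hcardq : Nat.card (Subgroup.zpowers q × Subgroup.zpowers q) = 4 := by
        rw [Nat.card_prod, Nat.card_zpowers, orderOf_eq_prime ((pow_two q).trans (hE.sq q hq)) hq1]
      have hle := relIndex_le_card (Subgroup.map_mono (f := QuotientGroup.mk' C) hKN.1)
      obtain ⟨m, hm⟩ := exists_pow_relIndex (h2.to_quotient C) (N.map (QuotientGroup.mk' C))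
        (K.map (QuotientGroup.mk' C))
      have hm4 : 4 ≤ 2 ^ m := by
        rw [hm] at hX4
        rcases m with _ | _ | m
        · omega
        · omega
        · exact le_trans (le_of_eq (by norm_num)) (Nat.pow_le_pow_right (by norm_num) (show 2 ≤ m + 1 + 1 by omega))
      have hsurj : Function.Surjective Ψ := by
        exact (Function.Injective.bijective_of_nat_card_le hinj (by omega)).2
      have hbe : ∀ e ∈ E, b * e * b⁻¹ * e⁻¹ ∈ Subgroup.zpowers q := fun e he => by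
        rw [inv_eq_of_mul_eq_one_right hb, hE.inv_eq he,
          hE.comm _ (conj_inv_mem hE.normal hb he) e he]
        exact him e he
      obtain ⟨y, hy⟩ := hsurj (⟨_, hbe e1 he1⟩, ⟨_, hbe e2 he2⟩)
      have hkb : (r y)⁻¹ * b ∈ C := mem_of_conj_eq hgen (comm_eq (congrArg (fun p => (p.1 : G)) hy))
        (comm_eq (congrArg (fun p => (p.2 : G)) hy))
      apply hdx
      have hcomC : ∀ c ∈ C, c * x = x * c := by
        intro c hc
        rw [hCx] at hc
        rcases step_mem hxx' hc with h | ⟨u, hu, rfl⟩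
        · exact hcx c h
        · rw [mul_assoc, ← mul_assoc x u x, ← hcx u hu, mul_assoc]
      have e : dd b x = x⁻¹ * r y * x * (r y)⁻¹ := by
        have hb' : b = r y * ((r y)⁻¹ * b) := by group
        calc dd b x = x⁻¹ * (b * x * b⁻¹) := by rw [inv_eq_of_mul_eq_one_right hb]; rfl
          _ = x⁻¹ * (r y * (((r y)⁻¹ * b) * x) * ((r y)⁻¹ * b)⁻¹ * (r y)⁻¹) := by
              conv_lhs => rw [hb']
              group
          _ = x⁻¹ * (r y * (x * ((r y)⁻¹ * b)) * ((r y)⁻¹ * b)⁻¹ * (r y)⁻¹) := by rw [hcomC _ hkb]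
          _ = _ := by group
      rw [e]
      have hmem : x⁻¹ * r y * (x⁻¹)⁻¹ * (r y)⁻¹ ∈ N ⊓ C := by
        refine ⟨hKN.comm_mem (inv_mem (hCK hxC)) (hrK y), ?_⟩
        have h1 := mul_mem (inv_mem hxC) (Subgroup.Normal.conj_mem inferInstance x hxC (r y))
        simpa [mul_assoc] using h1
      rw [inv_inv, hP2] at hmem
      exact hmem

/-- When the quotient by `E` has sections of order at most 4 and `E` is maximal. -/
theorem bound_small (h2 : IsPGroup 2 G) {E : Subgroup G} (hE : NormalElem E) (h8 : Nat.card E = 8)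
    (hmax : ∀ L : Subgroup G, NormalElem L → Nat.card L ≤ 8) [E.Normal] (hX : BoundBy (G ⧸ E) 4) :
    BoundBy G 16 := by
  intro K N hKN
  haveI : (Subgroup.centralizer (E : Set G)).Normal := Subgroup.normal_centralizer
  rw [relIndex_split (QuotientGroup.mk' E) hKN.1, QuotientGroup.ker_mk']
  have hX4 := hX _ _ (hKN.map (QuotientGroup.mk' E))
  have hM := relIndex_le_card (inf_le_inf_right E hKN.1)
  have hM8 : Nat.card (K ⊓ E : Subgroup G) ≤ 8 := h8 ▸ card_le_of_le inf_le_right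
  rcases Nat.lt_or_ge ((N.map (QuotientGroup.mk' E)).relIndex (K.map (QuotientGroup.mk' E))) 3 with h | hX3
  · calc _ ≤ 8 * 2 := Nat.mul_le_mul (by omega) (by omega)
      _ = 16 := rfl
  rcases Nat.lt_or_ge ((N ⊓ E).relIndex (K ⊓ E)) 5 with h | hE5
  · calc _ ≤ 4 * 4 := Nat.mul_le_mul (by omega) hX4
      _ = 16 := rfl
  exfalso
  obtain ⟨n, hn⟩ := exists_pow_relIndex h2 (N ⊓ E) (K ⊓ E)
  have hn8 : (N ⊓ E).relIndex (K ⊓ E) = 8 := by
    rw [hn] at hE5 hM ⊢
    rcases n with _ | _ | _ | _ | n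
    · omega
    · omega
    · omega
    · norm_num
    · have : 2 ^ 4 ≤ 2 ^ (n + 1 + 1 + 1 + 1) := Nat.pow_le_pow_right (by norm_num) (by omega)
      omega
  have hKE : E ≤ K := inf_eq_right.mp (eq_of_le_of_card_ge inf_le_right (show Nat.card E ≤ Nat.card (K ⊓ E : Subgroup G) by omega))
  have hNE : N ⊓ E = ⊥ := eq_bot_of_relIndex_eq (inf_le_inf_right E hKN.1) (by omega)
  have hKC : K ≤ Subgroup.centralizer (E : Set G) := fun k hk => mem_centralizer_iff.mpr fun u hu => by
    have h1 : k * u * k⁻¹ * u⁻¹ ∈ N ⊓ E := Subgroup.mem_inf.mpr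
      ⟨hKN.comm_mem hk (hKE hu), E.mul_mem (Subgroup.Normal.conj_mem inferInstance u hu k) (E.inv_mem hu)⟩
    rw [hNE, Subgroup.mem_bot, mul_inv_eq_one, mul_inv_eq_iff_eq_mul] at h1
    exact h1.symm
  have hlt : E < Subgroup.centralizer (E : Set G) := by
    refine lt_of_le_of_ne hE.le_centralizer fun e => ?_
    have hmap : K.map (QuotientGroup.mk' E) = ⊥ := by
      rw [Subgroup.map_eq_bot_iff, QuotientGroup.ker_mk']
      exact hKC.trans e.ge
    rw [hmap, relIndex_bot_right] at hX3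
    omega
  obtain ⟨x, hxC, hxE, hxx, hxc⟩ := exists_step h2 hlt
  have hxcen : QuotientGroup.mk' E x ∈ Subgroup.center (G ⧸ E) := by
    refine mem_center_iff.mpr fun y => ?_
    obtain ⟨g, rfl⟩ := QuotientGroup.mk'_surjective E y
    rw [← map_mul, ← map_mul, QuotientGroup.mk'_apply, QuotientGroup.mk'_apply, QuotientGroup.eq]
    have h1 := Subgroup.Normal.conj_mem inferInstance _ (hxc g⁻¹) x⁻¹
    simpa [mul_assoc] using h1
  have hmem := central_mem hX (hKN.map (QuotientGroup.mk' E)) (by omega)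
    (by rw [← map_mul, QuotientGroup.mk'_apply, QuotientGroup.eq_one_iff]; exact hxx) hxcen
  obtain ⟨k, hk, hkx⟩ := Subgroup.mem_map.mp hmem
  rw [QuotientGroup.mk'_apply, QuotientGroup.mk'_apply, QuotientGroup.eq] at hkx
  have hxK : x ∈ K := by simpa using mul_mem hk (hKE hkx)
  have hx1 : x * x = 1 := by
    have : x * x ∈ N ⊓ E := ⟨hKN.2 x hxK, hxx⟩
    rwa [hNE, Subgroup.mem_bot] at this
  have hb := hmax _ (step_elem hE hx1 hxc hxC)
  rw [step_card (by rw [hx1]; exact one_mem E) hxE, h8] at hb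
  omega

end CfsgLib.LocalEvenB.SelfCentralEight.EightFinish
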