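import Cfsg.Agent.Lib.LocalEvenB.SelfCentralEight.Common

/-!
The configuration `|E ⊓ A| = 4`.
-/

set_option autoImplicit false

namespace CfsgLib.LocalEvenB.SelfCentralEight.Four

open Subgroup
open CfsgLib.LocalEvenB.SelfCentralEight.Sections CfsgLib.LocalEvenB.SelfCentralEight.Conj
open CfsgLib.LocalEvenB.SelfCentralEight.EightFinish CfsgLib.LocalEvenB.SelfCentralEight.Common

variable {G : Type*} [Group G] [Finite G]

theorem main (h2 : IsPGroup 2 G) {A E : Subgroup G} (hAc : ∀ x ∈ A, ∀ y ∈ A, x * y = y * x)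
    (hA2 : ∀ x ∈ A, x * x = 1) (hA8 : Nat.card A = 8) (hCA : Subgroup.centralizer (A : Set G) ≤ A)
    (hE : NormalElem E) (hE8 : 8 ≤ Nat.card E)
    (hmax : ∀ L : Subgroup G, NormalElem L → Nat.card L ≤ Nat.card E)
    (h4 : Nat.card (E ⊓ A : Subgroup G) = 4) : BoundBy G 16 := by
  haveI := hE.normal
  obtain ⟨a, haA, haE⟩ : ∃ a ∈ A, a ∉ E := by
    by_contra hc
    push_neg at hc
    rw [inf_eq_right.mpr (fun x hx => hc x hx), hA8] at h4
    omega
  have haa : a * a = 1 := hA2 a haA
  have hidx : ((E ⊓ A).subgroupOf A).index = 2 := by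
    have h := relIndex_mul_card (inf_le_right : E ⊓ A ≤ A)
    rw [h4, hA8] at h
    show (E ⊓ A).relIndex A = 2
    omega
  have hmemA : ∀ t : G, (∀ u ∈ E ⊓ A, u * t = t * u) → t * a = a * t → t ∈ A := by
    intro t ht hta
    refine hCA (mem_centralizer_iff.mpr fun v hv => ?_)
    by_cases hvE : v ∈ E
    · exact ht v ⟨hvE, hv⟩
    · have hva : v * a ∈ E ⊓ A := by
        have := (mul_mem_iff_of_index_two hidx (a := ⟨v, hv⟩) (b := ⟨a, haA⟩)).mpr
          (iff_of_false (fun h => hvE h.1) (fun h => haE h.1))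
        exact this
      have e : v = v * a * a := by rw [mul_assoc, haa, mul_one]
      calc v * t = v * a * (a * t) := by rw [← mul_assoc, ← e]
        _ = v * a * t * a := by rw [← hta, ← mul_assoc]
        _ = t * (v * a) * a := by rw [ht _ hva]
        _ = t * v := by rw [mul_assoc, ← e]
  have hfix : E ⊓ Subgroup.centralizer ({a} : Set G) = E ⊓ A := by
    ext u
    rw [mem_fix]
    exact ⟨fun h => ⟨h.1, hmemA u (fun v hv => hE.comm v hv.1 u h.1) h.2⟩, fun h => ⟨h.1, hAc u h.2 a haA⟩⟩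
  have hprod := card_eq_fix_mul_im hE haa
  have himle := card_im_le_fix hE haa
  rw [hfix, h4] at hprod himle
  have haC : a ∉ Subgroup.centralizer (E : Set G) := by
    intro h
    have : E ≤ E ⊓ A := hfix ▸ fun u hu => mem_fix.mpr ⟨hu, mem_centralizer_iff.mp h u hu⟩
    have := card_le_of_le this
    omega
  let AE : G → Prop := fun t => t ∈ E ∨ t * a ∈ E
  have hAEC : ∀ t ∈ Subgroup.centralizer (E : Set G), AE t → t ∈ E := by
    rintro t ht (h | h)
    · exact h
    · exact absurd (by simpa using Subgroup.mul_mem _ (Subgroup.inv_mem _ ht) (hE.le_centralizer h)) haC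
  have hL1 : ∀ s : G, (∀ u ∈ E ⊓ A, u * s = s * u) → dd a s ∈ (im hE haa).range → AE s := by
    intro s hs hd
    obtain ⟨u, hu, hsu⟩ := adjust hE haa hd
    have hsuA : s * u ∈ A := hmemA _ (fun v hv => by
      rw [← mul_assoc, hs v hv, mul_assoc, hE.comm v hv.1 u hu, ← mul_assoc]) hsu
    by_cases hsuE : s * u ∈ E
    · exact Or.inl (by simpa using mul_mem hsuE (inv_mem hu))
    · have hva : s * u * a ∈ E ⊓ A := by
        have := (mul_mem_iff_of_index_two hidx (a := ⟨s * u, hsuA⟩) (b := ⟨a, haA⟩)).mpr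
          (iff_of_false (fun h => hsuE h.1) (fun h => haE h.1))
        exact this
      refine Or.inr ?_
      have e : s * a = s * u * a * (a * u⁻¹ * a) := by
        rw [show s * u * a * (a * u⁻¹ * a) = s * u * (a * a) * u⁻¹ * a by group, haa]; group
      rw [e]
      exact mul_mem hva.1 (conj_inv_mem hE.normal haa (inv_mem hu))
  have hddC : ∀ s : G, dd a s ∈ E → dd a s ∈ Subgroup.centralizer (E : Set G) := fun s h => hE.le_centralizer h
  have hinv : ∀ s : G, dd a s ∈ E → ∀ u ∈ E ⊓ A, s * u * s⁻¹ ∈ E ⊓ A := by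
    intro s hs u hu
    rw [← hfix] at hu ⊢
    obtain ⟨hu, hua⟩ := mem_fix.mp hu
    refine mem_fix.mpr ⟨hE.normal.conj_mem u hu s, (fixed_iff haa).mpr ?_⟩
    rw [conj_comm hE.normal haa (hddC s hs) hu, (fixed_iff haa).mp hua]
  have hddmul : ∀ s t : G, dd a s ∈ E → dd a t ∈ E → dd a (s * t) ∈ E := fun s t hs ht => by
    rw [dd_mul haa]
    refine mul_mem ?_ ht
    simpa using hE.normal.conj_mem _ hs t⁻¹
  have hffix : ∀ s : G, dd a s ∈ E → dd a s ∈ E ⊓ A := fun s h =>
    hfix ▸ mem_fix.mpr ⟨h, dd_fixed hE haa h⟩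
  let N : Subgroup G :=
    (Subgroup.centralizer ({QuotientGroup.mk' E a} : Set (G ⧸ E))).comap (QuotientGroup.mk' E)
  have hN : ∀ s, s ∈ N ↔ dd a s ∈ E := fun s => by
    rw [Subgroup.mem_comap, mem_centralizer_singleton_iff]
    exact mk_comm_iff haa
  have hE0N : E ⊓ A ≤ N := fun u hu => (hN u).mpr (by
    rw [dd_eq_one_of_commute haa (hAc u hu.2 a haA)]; exact one_mem E)
  obtain ⟨w, hw, hw1, hwc⟩ : ∃ w ∈ E ⊓ A, w ≠ 1 ∧ ∀ s, dd a s ∈ E → s * w * s⁻¹ = w := by
    haveI : ((E ⊓ A).subgroupOf N).Normal :=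
      ⟨fun u hu g => hinv g ((hN g).mp g.2) u hu⟩
    have hne : (E ⊓ A).subgroupOf N ≠ ⊥ := fun e => by
      have h := Nat.card_congr (subgroupOfEquivOfLe hE0N).toEquiv
      rw [e, card_bot, h4] at h
      omega
    obtain ⟨w, hw, hwo, hwc⟩ :=
      CfsgLib.TwoGroups.Classify.exists_central_involution (h2.to_subgroup N) _ hne
    refine ⟨w, hw, fun e => ?_, fun s hs => ?_⟩
    · have : w = 1 := Subtype.ext e
      simp [this] at hwo
    · exact mul_inv_eq_iff_eq_mul.mpr (congrArg Subtype.val (mem_center_iff.mp hwc ⟨s, (hN s).mpr hs⟩))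
  have hww : w * w = 1 := hE.sq w hw.1
  have hwcard : Nat.card (Subgroup.zpowers w) = 2 := by
    rw [Nat.card_zpowers, orderOf_eq_prime ((pow_two w).trans hww) hw1]
  obtain ⟨f, hf, hfw⟩ : ∃ f ∈ E ⊓ A, f ∉ Subgroup.zpowers w := by
    by_contra hc
    push_neg at hc
    have := card_le_of_le (show E ⊓ A ≤ Subgroup.zpowers w from hc)
    omega
  have hcases : ∀ u ∈ E ⊓ A, u ∈ Subgroup.zpowers w ∨ ∃ n ∈ Subgroup.zpowers w, u = n * f := fun u hu =>
    four_cases h4 (fun x hx y hy => hE.comm x hx.1 y hy.1) hw hf hww hw1 hfw hu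
  have hwfix : ∀ s, dd a s ∈ E → ∀ n ∈ Subgroup.zpowers w, s * n * s⁻¹ = n := fun s hs n hn => by
    obtain ⟨i, rfl⟩ := mem_zpowers_iff.mp hn
    rw [← conj_zpow, hwc s hs]
  have hpt : ∀ s, dd a s ∈ E → s * f * s⁻¹ = f → ∀ u ∈ E ⊓ A, u * s = s * u := by
    intro s hs hsf u hu
    refine (mul_inv_eq_iff_eq_mul.mp ?_).symm
    rcases hcases u hu with h | ⟨n, hn, rfl⟩
    · exact hwfix s hs u h
    · rw [show s * (n * f) * s⁻¹ = (s * n * s⁻¹) * (s * f * s⁻¹) by group, hsf, hwfix s hs n hn]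
  have hmove : ∀ s, dd a s ∈ E → s * f * s⁻¹ ≠ f → s * f * s⁻¹ = w * f := by
    intro s hs hsf
    rcases hcases _ (hinv s hs f hf) with h | ⟨n, hn, he⟩
    · exfalso
      have h1 := hwfix s hs _ h
      have h2 : s * f * s⁻¹ = f := by
        calc s * f * s⁻¹ = s⁻¹ * (s * (s * f * s⁻¹) * s⁻¹) * s := by group
          _ = s⁻¹ * (s * f * s⁻¹) * s := by rw [h1]
          _ = f := by group
      exact hsf h2
    · obtain ⟨i, hi⟩ := mem_zpowers_iff.mp hn
      rcases Int.even_or_odd' i with ⟨t, rfl | rfl⟩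
      · rw [zpow_mul, zpow_two, hww, one_zpow] at hi
        exact absurd (by rw [he, ← hi, one_mul]) hsf
      · rw [zpow_add_one, zpow_mul, zpow_two, hww, one_zpow, one_mul] at hi
        rw [he, hi]
  have haq : QuotientGroup.mk' E a ≠ 1 := fun h => haE ((QuotientGroup.eq_one_iff a).mp h)
  have hoa : orderOf (QuotientGroup.mk' E a) = 2 :=
    orderOf_eq_prime (by rw [← map_pow, pow_two, haa, map_one]) haq
  have hAEq : ∀ t, AE t → QuotientGroup.mk' E t = 1 ∨ QuotientGroup.mk' E t = QuotientGroup.mk' E a := by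
    rintro t (h | h)
    · exact Or.inl ((QuotientGroup.eq_one_iff t).mpr h)
    · refine Or.inr ?_
      have h1 : QuotientGroup.mk' E (t * a) = 1 := (QuotientGroup.eq_one_iff (t * a)).mpr h
      rw [map_mul] at h1
      rw [eq_inv_of_mul_eq_one_left h1]
      exact inv_eq_of_mul_eq_one_right (by rw [← map_mul, haa, map_one])
  have hbound : (∀ s t, dd a s ∈ E → dd a t ∈ E → ¬ AE s → ¬ AE t → AE (s * t)) → BoundBy (G ⧸ E) 4 := by
    intro hpair
    refine boundBy_four (h2.to_quotient E) hoa ?_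
    classical
    have hsub : ∃ T : Finset (G ⧸ E), T.card ≤ 4 ∧
        ∀ x ∈ Subgroup.centralizer ({QuotientGroup.mk' E a} : Set (G ⧸ E)), x ∈ T := by
      by_cases hall : ∀ s, dd a s ∈ E → AE s
      · refine ⟨{1, QuotientGroup.mk' E a}, le_trans Finset.card_le_two (by norm_num), fun x hx => ?_⟩
        obtain ⟨s, rfl⟩ := QuotientGroup.mk'_surjective E x
        rcases hAEq s (hall s ((hN s).mp hx)) with h | h <;> simp [h]
      · push_neg at hall
        obtain ⟨s0, hs0, hs0n⟩ := hall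
        refine ⟨{1, QuotientGroup.mk' E a, (QuotientGroup.mk' E s0)⁻¹,
          (QuotientGroup.mk' E s0)⁻¹ * QuotientGroup.mk' E a}, Finset.card_le_four, fun x hx => ?_⟩
        obtain ⟨s, rfl⟩ := QuotientGroup.mk'_surjective E x
        by_cases hs : AE s
        · rcases hAEq s hs with h | h <;> simp [h]
        · rcases hAEq _ (hpair s0 s hs0 ((hN s).mp hx) hs0n hs) with h | h <;>
            rw [map_mul] at h
          · simp [eq_inv_of_mul_eq_one_right h]
          · simp [eq_inv_mul_of_mul_eq h]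
    obtain ⟨T, hT, hmem⟩ := hsub
    refine le_trans ?_ hT
    rw [← Nat.card_eq_finsetCard T]
    exact Nat.card_le_card_of_injective (fun x => (⟨x.1, hmem x.1 x.2⟩ : T))
      (fun x y h => Subtype.ext (Subtype.mk.inj h))
  obtain ⟨j, hj⟩ := exists_pow_card h2 E
  have hj' : Nat.card E = 8 ∨ Nat.card E = 16 := by
    rw [hj]
    have hlt : 2 ^ j ≤ 16 := by rw [← hj]; omega
    have h3 : 8 ≤ 2 ^ j := hj ▸ hE8
    rcases j with _ | _ | _ | _ | _ | j
    · omega
    · omega
    · omega
    · exact Or.inl rfl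
    · exact Or.inr rfl
    · have : 2 ^ 5 ≤ 2 ^ (j + 1 + 1 + 1 + 1 + 1) := Nat.pow_le_pow_right (by norm_num) (by omega)
      omega
  rcases hj' with hE8' | hE16
  · rw [hE8'] at hprod hmax
    have him2 : Nat.card (im hE haa).range = 2 := by omega
    by_cases hall : ∀ s, dd a s ∈ E → s * f * s⁻¹ = f
    · refine bound_small h2 hE hE8' hmax (hbound fun s t hs ht hns hnt => ?_)
      have h1 := hpt s hs (hall s hs)
      have h1' := hpt t ht (hall t ht)
      refine hL1 _ (fun u hu => by rw [← mul_assoc, h1 u hu, mul_assoc, h1' u hu, ← mul_assoc]) ?_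
      have h3 : dd a (s * t) = dd a s * dd a t := by
        rw [dd_mul haa, mul_assoc t⁻¹ (dd a s) t, h1' _ (hffix s hs), ← mul_assoc, inv_mul_cancel, one_mul]
      rw [h3]
      have hidx2 : ((im hE haa).range.subgroupOf (E ⊓ A)).index = 2 := by
        have h := relIndex_mul_card (show (im hE haa).range ≤ E ⊓ A from hfix ▸ im_le_fix hE haa)
        rw [him2, h4] at h
        show (im hE haa).range.relIndex (E ⊓ A) = 2
        omega
      exact (mul_mem_iff_of_index_two hidx2 (a := ⟨_, hffix s hs⟩) (b := ⟨_, hffix t ht⟩)).mpr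
        (iff_of_false (fun h => hns (hL1 s h1 h)) (fun h => hnt (hL1 t h1' h)))
    · push_neg at hall
      obtain ⟨s, hs, hsf⟩ := hall
      have hsw : ∀ u ∈ E ⊓ A, s * u * s⁻¹ = u → u ∈ Subgroup.zpowers w := by
        intro u hu hsu
        rcases hcases u hu with h | ⟨n, hn, rfl⟩
        · exact h
        · rw [show s * (n * f) * s⁻¹ = (s * n * s⁻¹) * (s * f * s⁻¹) by group, hwfix s hs n hn] at hsu
          exact absurd (mul_left_cancel hsu) hsf
      have himw : (im hE haa).range = Subgroup.zpowers w := by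
        refine eq_of_le_of_card_ge (fun i hi => ?_) (by rw [him2, hwcard])
        by_cases hi1 : i = 1
        · rw [hi1]; exact one_mem _
        refine hsw i (hfix ▸ im_le_fix hE haa hi) ?_
        obtain ⟨u, rfl⟩ := hi
        have hmem : s * im hE haa u * s⁻¹ ∈ (im hE haa).range := by
          refine ⟨⟨s * u * s⁻¹, hE.normal.conj_mem u u.2 s⟩, ?_⟩
          show s * (u : G) * s⁻¹ * (a * (s * u * s⁻¹) * a) = s * ((u : G) * (a * u * a)) * s⁻¹
          rw [conj_comm hE.normal haa (hddC s hs) u.2]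
          group
        have hz : (im hE haa).range = Subgroup.zpowers (im hE haa u) := by
          refine (eq_of_le_of_card_ge (zpowers_le.mpr (MonoidHom.mem_range.mpr ⟨u, rfl⟩)) ?_).symm
          rw [him2, Nat.card_zpowers, orderOf_eq_prime ((pow_two _).trans
            (hE.sq _ (mem_fix.mp (im_le_fix hE haa ⟨u, rfl⟩)).1)) hi1]
        rw [hz] at hmem
        obtain ⟨i, hi'⟩ := mem_zpowers_iff.mp hmem
        have hsq := hE.sq _ (mem_fix.mp (im_le_fix hE haa ⟨u, rfl⟩)).1
        rcases Int.even_or_odd' i with ⟨t, rfl | rfl⟩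
        · rw [zpow_mul, zpow_two, hsq, one_zpow] at hi'
          exact absurd (conj_eq_one_iff.mp hi'.symm) hi1
        · rw [zpow_add_one, zpow_mul, zpow_two, hsq, one_zpow, one_mul] at hi'
          exact hi'.symm
      refine ext_two h2 hE hE8' hmax hw.1 (fun b => b = a) ⟨a, rfl⟩ (fun b hb => hb ▸ haa) ?_ ?_ ?_ ?_
      · rintro b rfl u hu
        rw [← himw]
        exact ⟨⟨u, hu⟩, rfl⟩
      · intro u hu hc
        refine hsw u (hfix ▸ mem_fix.mpr ⟨hu, (hc a).symm⟩) ?_
        rw [hc s, mul_inv_cancel_right]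
      · rintro x hxC hxE - b rfl hxw
        rw [← himw] at hxw
        exact hxE (hAEC x hxC (hL1 x (fun u hu => mem_centralizer_iff.mp hxC u hu.1) hxw))
      · intro x hxC y hyC hxE hyE hxd hyd
        have hxd' := hxd a rfl
        have hyd' := hyd a rfl
        have hcomE : ∀ u ∈ E, u * y = y * u := fun u hu => mem_centralizer_iff.mp hyC u hu
        refine hAEC _ (Subgroup.mul_mem _ hxC hyC) (hL1 _ (fun u hu =>
          mem_centralizer_iff.mp (Subgroup.mul_mem _ hxC hyC) u hu.1) ?_)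
        have h3 : dd a (x * y) = dd a x * dd a y := by
          rw [dd_mul haa, mul_assoc y⁻¹ (dd a x) y, hcomE _ hxd', ← mul_assoc, inv_mul_cancel, one_mul]
        rw [h3]
        have hidx2 : ((im hE haa).range.subgroupOf (E ⊓ A)).index = 2 := by
          have h := relIndex_mul_card (show (im hE haa).range ≤ E ⊓ A from hfix ▸ im_le_fix hE haa)
          rw [him2, h4] at h
          show (im hE haa).range.relIndex (E ⊓ A) = 2
          omega
        exact (mul_mem_iff_of_index_two hidx2 (a := ⟨_, hffix x hxd'⟩) (b := ⟨_, hffix y hyd'⟩)).mpr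
          (iff_of_false
            (fun h => hxE (hAEC x hxC (hL1 x (fun u hu => mem_centralizer_iff.mp hxC u hu.1) h)))
            (fun h => hyE (hAEC y hyC (hL1 y (fun u hu => hcomE u hu.1) h))))
  · rw [hE16] at hprod
    have him4 : (im hE haa).range = E ⊓ A :=
      eq_of_le_of_card_ge (hfix ▸ im_le_fix hE haa) (by omega)
    have hsig : ∀ s, dd a s ∈ E → (∀ u ∈ E ⊓ A, u * s = s * u) → AE s := fun s hs hp =>
      hL1 s hp (him4 ▸ hffix s hs)
    have hX : BoundBy (G ⧸ E) 4 := hbound fun s t hs ht hns hnt => by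
      refine hsig _ (hddmul s t hs ht) (hpt _ (hddmul s t hs ht) ?_)
      have m1 := hmove s hs fun h => hns (hsig s hs (hpt s hs h))
      have m2 := hmove t ht fun h => hnt (hsig t ht (hpt t ht h))
      calc s * t * f * (s * t)⁻¹ = s * (t * f * t⁻¹) * s⁻¹ := by group
        _ = (s * w * s⁻¹) * (s * f * s⁻¹) := by rw [m2]; group
        _ = f := by rw [hwc s hs, m1, ← mul_assoc, hww, one_mul]
    haveI : (Subgroup.centralizer (E : Set G)).Normal := Subgroup.normal_centralizer
    have hCE : Subgroup.centralizer (E : Set G) = E := by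
      by_contra hne
      obtain ⟨c, hcC, hcE, -, hcc⟩ :=
        exists_step h2 (lt_of_le_of_ne hE.le_centralizer (Ne.symm hne))
      exact hcE (hAEC c hcC (hsig c (dd_mem_of_central hE.normal haa hcc)
        (fun u hu => mem_centralizer_iff.mp hcC u hu.1)))
    intro K Nn hKN
    rw [relIndex_split (QuotientGroup.mk' E) hKN.1, QuotientGroup.ker_mk']
    have hX4 := hX _ _ (hKN.map (QuotientGroup.mk' E))
    have hM16 : (Nn ⊓ E).relIndex (K ⊓ E) ≤ 16 :=
      le_trans (relIndex_le_card (inf_le_inf_right E hKN.1)) (hE16 ▸ card_le_of_le inf_le_right)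
    rcases Nat.lt_or_ge ((Nn.map (QuotientGroup.mk' E)).relIndex (K.map (QuotientGroup.mk' E))) 2 with h | hX2
    · calc _ ≤ 16 * 1 := Nat.mul_le_mul hM16 (by omega)
        _ = 16 := rfl
    rcases Nat.lt_or_ge ((Nn ⊓ E).relIndex (K ⊓ E)) 5 with h | hE5
    · calc _ ≤ 4 * 4 := Nat.mul_le_mul (by omega) hX4
        _ = 16 := rfl
    obtain ⟨m, hm⟩ := exists_pow_relIndex h2 (Nn ⊓ E) (K ⊓ E)
    have hKnE : ∃ k ∈ K, k ∉ E := by
      by_contra hc
      push_neg at hc
      rw [show K.map (QuotientGroup.mk' E) = ⊥ by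
        rw [Subgroup.map_eq_bot_iff, QuotientGroup.ker_mk']; exact hc, relIndex_bot_right] at hX2
      omega
    have hfix4 : Nat.card (E ⊓ Subgroup.centralizer ({a} : Set G) : Subgroup G) ≤ 4 := by rw [hfix, h4]
    have hno : ∀ k ∈ K, k ∉ E → ¬ AE k := by
      intro k hk hkE hAk
      refine no_thick hE hE16 hKN hE5 hk haa hfix4 ?_
      rcases hAk with h | h
      · exact absurd h hkE
      · have h1 := hE.normal.conj_mem _ h k⁻¹
        have h2' := inv_mem h1
        have hi : (k⁻¹ * (k * a) * k⁻¹⁻¹)⁻¹ = k⁻¹ * a := by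
          rw [inv_inv, inv_mul_cancel_left, mul_inv_rev, inv_eq_of_mul_eq_one_right haa]
        rwa [hi] at h2'
    by_cases hX3 : (Nn.map (QuotientGroup.mk' E)).relIndex (K.map (QuotientGroup.mk' E)) < 3
    · rcases Nat.lt_or_ge ((Nn ⊓ E).relIndex (K ⊓ E)) 9 with h | h
      · calc _ ≤ 8 * 2 := Nat.mul_le_mul (by omega) (by omega)
          _ = 16 := rfl
      exfalso
      obtain ⟨k, hk, hkE⟩ := hKnE
      have hm16 : (Nn ⊓ E).relIndex (K ⊓ E) = 16 := by
        rw [hm] at h hM16 ⊢
        rcases m with _ | _ | _ | _ | m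
        · omega
        · omega
        · omega
        · omega
        · have : 2 ^ 4 ≤ 2 ^ (m + 1 + 1 + 1 + 1) := Nat.pow_le_pow_right (by norm_num) (by omega)
          omega
      have hle := relIndex_le_card (inf_le_inf_right E hKN.1)
      have hle2 : Nat.card (K ⊓ E : Subgroup G) ≤ 16 := hE16 ▸ card_le_of_le inf_le_right
      have hP := eq_bot_of_relIndex_eq (inf_le_inf_right E hKN.1) (by omega)
      have hKE : E ≤ K := inf_eq_right.mp (eq_of_le_of_card_ge inf_le_right (by rw [hE16]; omega))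
      refine hkE (hCE ▸ mem_centralizer_iff.mpr fun u hu => ?_)
      have h1 : k * u * k⁻¹ * u⁻¹ ∈ Nn ⊓ E := Subgroup.mem_inf.mpr ⟨hKN.comm_mem hk (hKE hu),
        E.mul_mem (hE.normal.conj_mem u hu k) (E.inv_mem hu)⟩
      rw [hP, Subgroup.mem_bot, mul_inv_eq_one, mul_inv_eq_iff_eq_mul] at h1
      exact h1.symm
    exfalso
    obtain ⟨z, -, hzo, hzc⟩ := CfsgLib.TwoGroups.Classify.exists_central_involution (h2.to_quotient E)
      (⊤ : Subgroup (G ⧸ E)) (fun e => haq (Subgroup.mem_bot.mp (e ▸ mem_top _)))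
    have hzK := central_mem hX (hKN.map (QuotientGroup.mk' E)) (by omega)
      (by rw [← pow_two, ← hzo, pow_orderOf_eq_one]) hzc
    obtain ⟨kz, hkz, rfl⟩ := Subgroup.mem_map.mp hzK
    have hkzE : kz ∉ E := fun h => by
      rw [(QuotientGroup.eq_one_iff kz).mpr h |> fun e => (show QuotientGroup.mk' E kz = 1 from e)] at hzo
      simp at hzo
    have hkzd : dd a kz ∈ E := dd_mem_of_central hE.normal haa (mk_mem_center hzc)
    have hkzf : kz * f * kz⁻¹ ≠ f := fun h => hno kz hkz hkzE (hsig kz hkzd (hpt kz hkzd h))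
    have hcomKE : ∀ k ∈ K, ∀ u ∈ K ⊓ E, k * u * k⁻¹ * u⁻¹ ∈ Nn ⊓ E := fun k hk u hu => by
      obtain ⟨huK, huE⟩ := Subgroup.mem_inf.mp hu
      exact Subgroup.mem_inf.mpr ⟨hKN.comm_mem hk huK,
        E.mul_mem (hE.normal.conj_mem u huE k) (E.inv_mem huE)⟩
    have hri := relIndex_mul_card (inf_le_inf_right E hKN.1)
    have hMle : Nat.card (K ⊓ E : Subgroup G) ≤ 16 := hE16 ▸ card_le_of_le inf_le_right
    rw [hm] at hri hE5 hM16
    rcases Nat.lt_or_ge (Nat.card (K ⊓ E : Subgroup G)) 16 with hM8 | hMtop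
    · have hP : Nn ⊓ E = ⊥ := by
        refine eq_bot_of_card_eq _ ?_
        by_contra hne
        have : 0 < Nat.card (Nn ⊓ E : Subgroup G) := Nat.card_pos
        have h2le : 2 ≤ Nat.card (Nn ⊓ E : Subgroup G) := by omega
        rcases m with _ | _ | _ | m
        · omega
        · omega
        · omega
        · have : 2 ^ 3 ≤ 2 ^ (m + 1 + 1 + 1) := Nat.pow_le_pow_right (by norm_num) (by omega)
          nlinarith
      have hM : 5 ≤ Nat.card (K ⊓ E : Subgroup G) := by
        rw [show Nat.card (Nn ⊓ E : Subgroup G) = 1 by rw [hP, card_bot], mul_one] at hri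
        omega
      let Fx : Subgroup G := E ⊓ Subgroup.centralizer ({kz} : Set G)
      have hMF : K ⊓ E ≤ Fx := fun u hu => by
        have h1 := hcomKE kz hkz u hu
        rw [hP, Subgroup.mem_bot, mul_inv_eq_one, mul_inv_eq_iff_eq_mul] at h1
        exact mem_fix.mpr ⟨(Subgroup.mem_inf.mp hu).2, h1.symm⟩
      have hFE : Fx ≠ E := fun e => hkzf (mul_inv_eq_iff_eq_mul.mpr
        (mem_fix.mp (show f ∈ Fx from e.symm ▸ hf.1)).2.symm)
      have hidxF : (Fx.subgroupOf E).index = 2 := by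
        have h := relIndex_mul_card (inf_le_left : Fx ≤ E)
        have h1 := card_le_of_le hMF
        have h3 : Fx.relIndex E ≠ 1 := fun e => hFE (le_antisymm inf_le_left (relIndex_eq_one.mp e))
        obtain ⟨i, hi⟩ := exists_pow_relIndex h2 Fx E
        show Fx.relIndex E = 2
        rw [hi, hE16] at h
        rw [hi] at h3 ⊢
        rcases i with _ | _ | i
        · simp at h3
        · rfl
        · have : 2 ^ 2 ≤ 2 ^ (i + 1 + 1) := Nat.pow_le_pow_right (by norm_num) (by omega)
          nlinarith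
      have hFinv : ∀ u ∈ Fx, a * u * a ∈ Fx := fun u hu => by
        obtain ⟨huE, huk⟩ := mem_fix.mp hu
        refine mem_fix.mpr ⟨conj_inv_mem hE.normal haa huE, ?_⟩
        have h1 := conj_comm hE.normal haa (hddC kz hkzd) huE
        rw [show kz * u * kz⁻¹ = u from mul_inv_eq_iff_eq_mul.mpr huk.symm] at h1
        exact (mul_inv_eq_iff_eq_mul.mp h1.symm).symm
      have himF : (im hE haa).range ≤ Fx := by
        rintro _ ⟨u, rfl⟩
        refine (mul_mem_iff_of_index_two hidxF (a := u)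
          (b := ⟨a * u * a, conj_inv_mem hE.normal haa u.2⟩)).mpr ⟨fun h => hFinv u h, fun h => ?_⟩
        have h1 : a * (a * (u : G) * a) * a ∈ Fx := hFinv _ h
        rwa [show a * (a * (u : G) * a) * a = (a * a) * u * (a * a) by group, haa, one_mul, mul_one] at h1
      exact hkzf (mul_inv_eq_iff_eq_mul.mpr (mem_fix.mp (himF (him4 ▸ hf))).2.symm)
    · have hKE : E ≤ K := inf_eq_right.mp (eq_of_le_of_card_ge inf_le_right (by rw [hE16]; omega))
      let p := kz * f * kz⁻¹ * f⁻¹
      have hpP : p ∈ Nn ⊓ E := hcomKE kz hkz f ⟨hKE hf.1, hf.1⟩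
      have hp0 : p ∈ E ⊓ A := mul_mem (hinv kz hkzd f hf) (inv_mem hf)
      have hp1 : p ≠ 1 := fun h => hkzf (mul_inv_eq_one.mp h)
      have hP2 : Nn ⊓ E = Subgroup.zpowers p := by
        refine (eq_of_le_of_card_ge (zpowers_le.mpr hpP) ?_).symm
        rw [Nat.card_zpowers, orderOf_eq_prime ((pow_two p).trans (hE.sq p hpP.2)) hp1]
        have : 0 < Nat.card (Nn ⊓ E : Subgroup G) := Nat.card_pos
        rcases m with _ | _ | _ | m
        · omega
        · omega
        · omega
        · have : 2 ^ 3 ≤ 2 ^ (m + 1 + 1 + 1) := Nat.pow_le_pow_right (by norm_num) (by omega)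
          nlinarith
      have hpE : ∀ n ∈ Subgroup.zpowers p, n ∈ E ⊓ A := fun n hn => zpowers_le.mpr hp0 hn
      have hkact : ∀ k ∈ K, ∀ u ∈ E, k * u * k⁻¹ * u⁻¹ ∈ Subgroup.zpowers p := fun k hk u hu =>
        hP2 ▸ hcomKE k hk u ⟨hKE hu, hu⟩
      have hrep : ∀ y : K.map (QuotientGroup.mk' E), ∃ k ∈ K, QuotientGroup.mk' E k = (y : G ⧸ E) :=
        fun y => y.2
      choose r hrK hr using hrep
      let φ : K.map (QuotientGroup.mk' E) → Subgroup.zpowers p := fun y =>
        ⟨r y * f * (r y)⁻¹ * f⁻¹, hkact _ (hrK y) f hf.1⟩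
      have hnotinj : ¬ Function.Injective φ := fun h => by
        have h1 := Nat.card_le_card_of_injective φ h
        rw [Nat.card_zpowers, orderOf_eq_prime ((pow_two p).trans (hE.sq p hpP.2)) hp1] at h1
        have := relIndex_le_card (Subgroup.map_mono (f := QuotientGroup.mk' E) hKN.1)
        omega
      rw [Function.not_injective_iff] at hnotinj
      obtain ⟨y, y', hyy, hne⟩ := hnotinj
      let k0 := (r y)⁻¹ * r y'
      have hk0 : k0 ∈ K := K.mul_mem (K.inv_mem (hrK y)) (hrK y')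
      have hk0E : k0 ∉ E := fun h => hne (Subtype.ext (by
        rw [← hr y, ← hr y', QuotientGroup.mk'_apply, QuotientGroup.mk'_apply, QuotientGroup.eq]; exact h))
      have hk0f : k0 * f * k0⁻¹ = f := by
        have h1 : r y * f * (r y)⁻¹ = r y' * f * (r y')⁻¹ :=
          mul_right_cancel (congrArg Subtype.val hyy)
        calc k0 * f * k0⁻¹ = (r y)⁻¹ * (r y' * f * (r y')⁻¹) * r y := by simp only [k0]; group
          _ = f := by rw [← h1]; group
      have hkp : ∀ k ∈ K, k * p = p * k := by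
        intro k hk
        refine mul_inv_eq_iff_eq_mul.mp ?_
        obtain ⟨i, hi⟩ := mem_zpowers_iff.mp (hkact k hk p hp0.1)
        have hpp := hE.sq p hp0.1
        rcases Int.even_or_odd' i with ⟨t, rfl | rfl⟩
        · rw [zpow_mul, zpow_two, hpp, one_zpow] at hi
          exact mul_inv_eq_one.mp hi.symm
        · rw [zpow_add_one, zpow_mul, zpow_two, hpp, one_zpow, one_mul, hE.inv_eq hp0.1] at hi
          have h1 : k * p * k⁻¹ = 1 := mul_eq_right.mp hi.symm
          exact absurd (conj_eq_one_iff.mp h1) hp1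
      have hk0pt : ∀ u ∈ E ⊓ A, u * k0 = k0 * u := by
        intro u hu
        have hfp : f ∉ Subgroup.zpowers p := fun h => by
          obtain ⟨i, hi⟩ := mem_zpowers_iff.mp h
          apply hkzf
          rw [← hi, ← conj_zpow, mul_inv_eq_iff_eq_mul.mpr (hkp kz hkz)]
        rcases four_cases h4 (fun x hx y hy => hE.comm x hx.1 y hy.1) hp0 hf (hE.sq p hp0.1) hp1 hfp hu
          with h | ⟨n, hn, rfl⟩
        · obtain ⟨i, rfl⟩ := mem_zpowers_iff.mp h
          exact ((show Commute k0 p from hkp k0 hk0).zpow_right i).symm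
        · obtain ⟨i, rfl⟩ := mem_zpowers_iff.mp hn
          refine (Commute.mul_left ((show Commute k0 p from hkp k0 hk0).zpow_right i).symm ?_ : Commute _ k0)
          exact (show Commute k0 f from mul_inv_eq_iff_eq_mul.mp hk0f).symm
      have hk0d : dd a k0 ∈ E := by
        rw [← hCE]
        refine mem_centralizer_iff.mpr fun u hu => ?_
        have hau := conj_inv_mem hE.normal haa hu
        let i := u * (a * u * a)
        have hi : i ∈ E ⊓ A := him4 ▸ (⟨⟨u, hu⟩, rfl⟩ : i ∈ (im hE haa).range)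
        have hi2 : a * u * a = u * i := by simp only [i]; rw [← mul_assoc, hE.sq u hu, one_mul]
        let n := k0 * u * k0⁻¹ * u⁻¹
        have hn : n ∈ E ⊓ A := hpE _ (hkact k0 hk0 u hu)
        have hn2 : k0 * u * k0⁻¹ = n * u := by simp only [n]; group
        have hcomm : a * (k0 * u * k0⁻¹) * a = k0 * (a * u * a) * k0⁻¹ := by
          rw [hi2, show k0 * (u * i) * k0⁻¹ = (k0 * u * k0⁻¹) * (k0 * i * k0⁻¹) by group,
            mul_inv_eq_iff_eq_mul.mpr (hk0pt i hi).symm, hn2]
          calc a * (n * u) * a = (a * n) * u * a := by group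
            _ = n * (a * u * a) := by rw [← hAc n hn.2 a haA]; group
            _ = _ := by rw [hi2]; group
        have e : a⁻¹ = a := inv_eq_of_mul_eq_one_right haa
        have hact : (a * k0 * a) * u * (a * k0 * a)⁻¹ = k0 * u * k0⁻¹ := by
          calc (a * k0 * a) * u * (a * k0 * a)⁻¹ = a * (k0 * (a * u * a) * k0⁻¹) * a := by
                simp only [mul_inv_rev, e]; group
            _ = (a * a) * (k0 * u * k0⁻¹) * (a * a) := by rw [← hcomm]; group
            _ = _ := by rw [haa, one_mul, mul_one]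
        show u * (k0⁻¹ * (a * k0 * a)) = k0⁻¹ * (a * k0 * a) * u
        symm
        calc k0⁻¹ * (a * k0 * a) * u = k0⁻¹ * ((a * k0 * a) * u * (a * k0 * a)⁻¹) * (a * k0 * a) := by group
          _ = _ := by rw [hact]; group
      exact hno k0 hk0 hk0E (hsig k0 hk0d hk0pt)

end CfsgLib.LocalEvenB.SelfCentralEight.Four
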