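import Cfsg.Agent.Lib.LocalEvenB.SelfCentralEight.Common

/-!
The configuration `|E ⊓ A| = 2`.
-/

set_option autoImplicit false

namespace CfsgLib.LocalEvenB.SelfCentralEight.Two

open Subgroup
open CfsgLib.LocalEvenB.SelfCentralEight.Sections CfsgLib.LocalEvenB.SelfCentralEight.Conj
open CfsgLib.LocalEvenB.SelfCentralEight.EightFinish CfsgLib.LocalEvenB.SelfCentralEight.Common

variable {G : Type*} [Group G] [Finite G]

theorem exists_partner {A : Subgroup G} (hA8 : Nat.card A = 8) {z b : G} :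
    ∃ b' ∈ A, b' ≠ 1 ∧ b' ≠ z ∧ b' ≠ b ∧ b' ≠ z * b := by
  classical
  haveI : Fintype G := Fintype.ofFinite G
  by_contra! hc
  have hsub : (A : Set G) ⊆ ↑({1, z, b, z * b} : Finset G) := fun x hx => by
    have h1 := hc x hx
    simp only [Finset.coe_insert, Finset.coe_singleton, Set.mem_insert_iff, Set.mem_singleton_iff]
    tauto
  have h1 := Set.ncard_le_ncard hsub (Finset.finite_toSet _)
  rw [← Nat.card_coe_set_eq, Set.ncard_coe_finset] at h1
  have h2 : ({1, z, b, z * b} : Finset G).card ≤ 4 := Finset.card_le_four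
  have h3 : Nat.card (A : Set G) = 8 := hA8
  omega

theorem le_centralizer_of {A : Subgroup G} (hA8 : Nat.card A = 8) {z b b' u : G}
    (hz : z ∈ A) (hb : b ∈ A) (hb' : b' ∈ A) (hz1 : z ≠ 1) (hb1 : b ≠ 1) (hbz : b ≠ z)
    (hzz : z * z = 1) (hn : b' ≠ 1 ∧ b' ≠ z ∧ b' ≠ b ∧ b' ≠ z * b)
    (huz : z * u = u * z) (hub : b * u = u * b) (hub' : b' * u = u * b') :
    A ≤ Subgroup.centralizer ({u} : Set G) := by
  classical
  have hV : ∀ x ∈ ({1, z, b, z * b, b'} : Finset G), x ∈ A ⊓ Subgroup.centralizer ({u} : Set G) := by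
    intro x hx
    simp only [Finset.mem_insert, Finset.mem_singleton] at hx
    rcases hx with rfl | rfl | rfl | rfl | rfl
    · exact one_mem _
    · exact mem_fix.mpr ⟨hz, huz⟩
    · exact mem_fix.mpr ⟨hb, hub⟩
    · exact mul_mem (mem_fix.mpr ⟨hz, huz⟩) (mem_fix.mpr ⟨hb, hub⟩)
    · exact mem_fix.mpr ⟨hb', hub'⟩
  have h5 : ({1, z, b, z * b, b'} : Finset G).card = 5 := by
    have n1 : (1 : G) ≠ z * b := fun h => hbz (by
      have := eq_inv_of_mul_eq_one_right h.symm
      rwa [inv_eq_of_mul_eq_one_right hzz] at this)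
    have n2 : z ≠ z * b := fun h => hb1 (mul_eq_left.mp h.symm)
    have n3 : b ≠ z * b := fun h => hz1 (mul_eq_right.mp h.symm)
    rw [Finset.card_insert_of_notMem, Finset.card_insert_of_notMem, Finset.card_insert_of_notMem,
      Finset.card_insert_of_notMem, Finset.card_singleton]
    · simp [Ne.symm hn.2.2.2]
    · simp [n3, Ne.symm hn.2.2.1]
    · simp [Ne.symm hbz, n2, Ne.symm hn.2.1]
    · simp [Ne.symm hz1, Ne.symm hb1, n1, Ne.symm hn.1]
  have hle : 5 ≤ Nat.card (A ⊓ Subgroup.centralizer ({u} : Set G) : Subgroup G) := by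
    rw [← h5, ← Nat.card_eq_finsetCard]
    exact Nat.card_le_card_of_injective (fun x => (⟨x.1, hV x.1 x.2⟩ : (A ⊓ Subgroup.centralizer ({u} : Set G) : Subgroup G)))
      (fun x y h => Subtype.ext (Subtype.mk.inj h))
  have hd := card_dvd_of_le (inf_le_left : A ⊓ Subgroup.centralizer ({u} : Set G) ≤ A)
  rw [hA8] at hd
  obtain ⟨j, hj3, hj⟩ := (Nat.dvd_prime_pow Nat.prime_two).mp
    (show Nat.card (A ⊓ Subgroup.centralizer ({u} : Set G) : Subgroup G) ∣ 2 ^ 3 from hd)
  have hj' : j = 3 := by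
    by_contra hne
    have : 2 ^ j ≤ 2 ^ 2 := Nat.pow_le_pow_right (by norm_num) (by omega)
    omega
  subst hj'
  exact inf_eq_left.mp (eq_of_le_of_card_ge inf_le_left (by rw [hA8, hj]; norm_num))

theorem main (h2 : IsPGroup 2 G) {A E : Subgroup G} (hAc : ∀ x ∈ A, ∀ y ∈ A, x * y = y * x)
    (hA2 : ∀ x ∈ A, x * x = 1) (hA8 : Nat.card A = 8) (hCA : Subgroup.centralizer (A : Set G) ≤ A)
    (hE : NormalElem E) (hE8 : 8 ≤ Nat.card E)
    (hmax : ∀ L : Subgroup G, NormalElem L → Nat.card L ≤ Nat.card E)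
    (h2A : Nat.card (E ⊓ A : Subgroup G) = 2) : BoundBy G 16 := by
  haveI := hE.normal
  haveI : (Subgroup.centralizer (E : Set G)).Normal := Subgroup.normal_centralizer
  have hne : E ≠ ⊥ := fun e => by rw [e, card_bot] at hE8; omega
  obtain ⟨z, hzE, hzo, hzc'⟩ := CfsgLib.TwoGroups.Classify.exists_central_involution h2 E hne
  have hzc : ∀ g : G, g * z = z * g := mem_center_iff.mp hzc'
  have hzA : z ∈ A := hCA (mem_centralizer_iff.mpr fun v _ => hzc v)
  have hz1 : z ≠ 1 := fun e => by simp [e] at hzo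
  have hzz : z * z = 1 := hE.sq z hzE
  have hE0 : E ⊓ A = Subgroup.zpowers z :=
    (eq_of_le_of_card_ge (zpowers_le.mpr (Subgroup.mem_inf.mpr ⟨hzE, hzA⟩)) (by rw [Nat.card_zpowers, hzo, h2A])).symm
  have hpart : ∀ b ∈ A, b ∉ E → ∃ b' ∈ A, b' ∉ E ∧ b' ≠ 1 ∧ b' ≠ z ∧ b' ≠ b ∧ b' ≠ z * b := by
    intro b hb hbE
    obtain ⟨b', hb', n1, n2, n3, n4⟩ := exists_partner hA8 (z := z) (b := b)
    refine ⟨b', hb', fun h => ?_, n1, n2, n3, n4⟩
    have h1 : b' ∈ Subgroup.zpowers z := hE0 ▸ Subgroup.mem_inf.mpr ⟨h, hb'⟩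
    obtain ⟨i, hi⟩ := mem_zpowers_iff.mp h1
    rcases Int.even_or_odd' i with ⟨t, rfl | rfl⟩
    · rw [zpow_mul, zpow_two, hzz, one_zpow] at hi
      exact n1 hi.symm
    · rw [zpow_add_one, zpow_mul, zpow_two, hzz, one_zpow, one_mul] at hi
      exact n2 hi.symm
  have hmem : ∀ {b b' u : G}, b ∈ A → b ∉ E → b' ∈ A → (b' ≠ 1 ∧ b' ≠ z ∧ b' ≠ b ∧ b' ≠ z * b) →
      u * b = b * u → u * b' = b' * u → u ∈ A := by
    intro b b' u hb hbE hb' hn hub hub'
    have hle := le_centralizer_of (u := u) hA8 hzA hb hb' hz1 (fun h => hbE (h ▸ one_mem E))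
      (fun h => hbE (h ▸ hzE)) hzz hn (hzc u).symm hub.symm hub'.symm
    exact hCA (mem_centralizer_iff.mpr fun v hv => mem_centralizer_singleton_iff.mp (hle hv))
  obtain ⟨a, haA, haE⟩ : ∃ a ∈ A, a ∉ E := by
    by_contra hc
    push_neg at hc
    rw [inf_eq_right.mpr (fun x hx => hc x hx), hA8] at h2A
    omega
  -- fixed groups and images
  have hfacts : ∀ (b b' : G), b ∈ A → b ∉ E → b' ∈ A → (b' ≠ 1 ∧ b' ≠ z ∧ b' ≠ b ∧ b' ≠ z * b) →
      ∀ hbb : b * b = 1,
      Nat.card (E ⊓ Subgroup.centralizer ({b} : Set G) : Subgroup G) = 4 ∧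
      Nat.card (im hE hbb).range * 4 = Nat.card E ∧
      (Nat.card E = 8 → (im hE hbb).range = Subgroup.zpowers z) ∧
      (∃ v ∈ E, v * b = b * v ∧ v * (b' * v * b') = z) := by
    intro b b' hb hbE hb' hn hbb
    have hbb' : b' * b' = 1 := hA2 b' hb'
    let F : Subgroup G := E ⊓ Subgroup.centralizer ({b} : Set G)
    let φ : F →* G := (im hE hbb').comp (Subgroup.inclusion inf_le_left)
    have hbcomm : b * b' = b' * b := hAc b hb b' hb'
    have hker : Nat.card φ.ker ≤ 2 := by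
      have hle : φ.ker.map F.subtype ≤ E ⊓ A := by
        rintro _ ⟨u, hu, rfl⟩
        obtain ⟨huE, hub⟩ := mem_fix.mp u.2
        have h1 : (u : G) * (b' * u * b') = 1 := hu
        exact Subgroup.mem_inf.mpr ⟨huE, hmem hb hbE hb' hn hub
          ((fixed_iff hbb').mpr ((eq_inv_of_mul_eq_one_right h1).trans (hE.inv_eq huE)))⟩
      have h1 := card_le_of_le hle
      rwa [card_map_of_injective F.subtype_injective, h2A] at h1
    have hran : φ.range ≤ Subgroup.zpowers z := by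
      rintro _ ⟨u, rfl⟩
      obtain ⟨huE, hub⟩ := mem_fix.mp u.2
      obtain ⟨h1E, h1b'⟩ := mem_fix.mp (im_le_fix hE hbb' ⟨⟨u, huE⟩, rfl⟩)
      rw [← hE0]
      refine Subgroup.mem_inf.mpr ⟨h1E, hmem hb hbE hb' hn ?_ h1b'⟩
      show (u : G) * (b' * u * b') * b = b * ((u : G) * (b' * u * b'))
      calc (u : G) * (b' * u * b') * b = (u : G) * (b' * u) * (b' * b) := by group
        _ = (u : G) * b' * ((u : G) * b) * b' := by rw [← hbcomm]; group
        _ = (u : G) * (b' * b) * u * b' := by rw [hub]; group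
        _ = ((u : G) * b) * b' * u * b' := by rw [← hbcomm]; group
        _ = _ := by rw [hub]; group
    have hprodF := card_mul_index φ.ker
    rw [Subgroup.index_ker] at hprodF
    have hran2 : Nat.card φ.range ≤ 2 := by
      have := card_le_of_le hran
      rwa [Nat.card_zpowers, hzo] at this
    have hF4 : Nat.card F ≤ 4 := by
      rw [← hprodF]
      exact Nat.mul_le_mul hker hran2
    have hsq := card_le_sq hE hbb
    obtain ⟨i, hi⟩ := exists_pow_card h2 F
    have hF : Nat.card F = 4 := by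
      change Nat.card E ≤ Nat.card F * Nat.card F at hsq
      rw [hi] at hF4 hsq ⊢
      rcases i with _ | _ | _ | i
      · simp at hsq; omega
      · simp at hsq; omega
      · norm_num
      · have : 2 ^ 3 ≤ 2 ^ (i + 1 + 1 + 1) := Nat.pow_le_pow_right (by norm_num) (by omega)
        omega
    have hprod := card_eq_fix_mul_im hE hbb
    change Nat.card E = Nat.card F * _ at hprod
    rw [hF] at hprod
    refine ⟨hF, by omega, fun h8 => ?_, ?_⟩
    · have him2 : Nat.card (im hE hbb).range = 2 := by omega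
      refine eq_of_le_of_card_ge (fun x hx => ?_) (by rw [him2, Nat.card_zpowers, hzo])
      obtain ⟨hxE, hxb⟩ := mem_fix.mp (im_le_fix hE hbb hx)
      rw [← hE0]
      refine Subgroup.mem_inf.mpr ⟨hxE, hmem hb hbE hb' hn hxb ?_⟩
      by_cases hx1 : x = 1
      · rw [hx1, one_mul, mul_one]
      obtain ⟨u, rfl⟩ := hx
      have hinv : b' * im hE hbb u * b' ∈ (im hE hbb).range := by
        refine ⟨⟨b' * u * b', conj_inv_mem hE.normal hbb' u.2⟩, ?_⟩
        show b' * (u : G) * b' * (b * (b' * u * b') * b) = b' * ((u : G) * (b * u * b)) * b'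
        calc b' * (u : G) * b' * (b * (b' * u * b') * b)
            = b' * (u : G) * b' * ((b * b') * u * (b' * b)) := by group
          _ = b' * (u : G) * b' * ((b' * b) * u * (b * b')) := by rw [hbcomm]
          _ = b' * (u : G) * (b' * b') * b * u * b * b' := by group
          _ = _ := by rw [hbb']; group
      have hz' : (im hE hbb).range = Subgroup.zpowers (im hE hbb u) := by
        refine (eq_of_le_of_card_ge (zpowers_le.mpr (MonoidHom.mem_range.mpr ⟨u, rfl⟩)) ?_).symm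
        rw [him2, Nat.card_zpowers, orderOf_eq_prime ((pow_two _).trans (hE.sq _ hxE)) hx1]
      rw [hz'] at hinv
      obtain ⟨i, hi⟩ := mem_zpowers_iff.mp hinv
      have hsq' := hE.sq _ hxE
      rcases Int.even_or_odd' i with ⟨t, rfl | rfl⟩
      · rw [zpow_mul, zpow_two, hsq', one_zpow] at hi
        exfalso
        apply hx1
        have h1 : b' * (b' * im hE hbb u * b') * b' = 1 := by rw [← hi, mul_one, hbb']
        rwa [show b' * (b' * im hE hbb u * b') * b' = (b' * b') * im hE hbb u * (b' * b') by group,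
          hbb', one_mul, mul_one] at h1
      · rw [zpow_add_one, zpow_mul, zpow_two, hsq', one_zpow, one_mul] at hi
        exact (fixed_iff hbb').mpr hi.symm
    · have hranz : φ.range = Subgroup.zpowers z := by
        refine eq_of_le_of_card_ge hran ?_
        rw [Nat.card_zpowers, hzo]
        nlinarith
      obtain ⟨v, hv⟩ := (hranz ▸ mem_zpowers z : z ∈ φ.range)
      obtain ⟨hvE, hvb⟩ := mem_fix.mp v.2
      exact ⟨v, hvE, hvb, hv⟩
  have hL2 : ∀ (b b' : G), b ∈ A → b ∉ E → b' ∈ A → (b' ≠ 1 ∧ b' ≠ z ∧ b' ≠ b ∧ b' ≠ z * b) →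
      ∀ hbb : b * b = 1, ∀ s : G, dd b s ∈ (im hE hbb).range → dd b' s ∈ E →
        ∃ w ∈ E, s * w ∈ A := by
    intro b b' hb hbE hb' hn hbb s hd hd'
    have hbb' : b' * b' = 1 := hA2 b' hb'
    obtain ⟨u, hu, hsu⟩ := adjust hE hbb hd
    have he : dd b' (s * u) ∈ E := by
      rw [dd_mul hbb']
      refine mul_mem ?_ (mul_mem (inv_mem hu) (conj_inv_mem hE.normal hbb' hu))
      simpa using hE.normal.conj_mem _ hd' u⁻¹
    have heb : dd b' (s * u) * b = b * dd b' (s * u) := by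
      have h1 : Commute b (s * u) := hsu.symm
      have h3 : Commute b b' := hAc b hb b' hb'
      exact ((h1.inv_right).mul_right ((h3.mul_right h1).mul_right h3)).symm
    have hz' : dd b' (s * u) ∈ Subgroup.zpowers z := hE0 ▸ Subgroup.mem_inf.mpr
      ⟨he, hmem hb hbE hb' hn heb (dd_fixed hE hbb' he)⟩
    obtain ⟨i, hi⟩ := mem_zpowers_iff.mp hz'
    rcases Int.even_or_odd' i with ⟨t, rfl | rfl⟩
    · rw [zpow_mul, zpow_two, hzz, one_zpow] at hi
      exact ⟨u, hu, hmem hb hbE hb' hn hsu ((dd_one_iff hbb' _).mp hi.symm)⟩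
    · rw [zpow_add_one, zpow_mul, zpow_two, hzz, one_zpow, one_mul] at hi
      obtain ⟨v, hvE, hvb, hvz⟩ := (hfacts b b' hb hbE hb' hn hbb).2.2.2
      refine ⟨u * v, mul_mem hu hvE, ?_⟩
      rw [← mul_assoc]
      refine hmem hb hbE hb' hn ?_ ((dd_one_iff hbb' _).mp ?_)
      · rw [mul_assoc, hvb, ← mul_assoc, hsu, mul_assoc]
      · rw [dd_mul hbb', ← hi, hzc v⁻¹, mul_assoc z v⁻¹ v, inv_mul_cancel, mul_one]
        show z * (v⁻¹ * (b' * v * b')) = 1
        rw [hE.inv_eq hvE, hvz, hzz]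
  have hCA' : ∀ c ∈ Subgroup.centralizer (E : Set G), c ∈ A → c ∈ E := by
    intro c hcC hcA
    by_contra hcE
    obtain ⟨c', hc', -, hn⟩ := hpart c hcA hcE
    have h := (hfacts c c' hcA hcE hc' hn (hA2 c hcA)).1
    rw [inf_eq_left.mpr (fun u hu => mem_centralizer_singleton_iff.mpr (mem_centralizer_iff.mp hcC u hu))] at h
    omega
  have hCE : ∀ (b b' : G), b ∈ A → b ∉ E → b' ∈ A → (b' ≠ 1 ∧ b' ≠ z ∧ b' ≠ b ∧ b' ≠ z * b) →
      ∀ hbb : b * b = 1, ∀ x ∈ Subgroup.centralizer (E : Set G),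
        dd b x ∈ (im hE hbb).range → dd b' x ∈ E → x ∈ E := by
    intro b b' hb hbE hb' hn hbb x hxC hd hd'
    obtain ⟨w, hw, hxw⟩ := hL2 b b' hb hbE hb' hn hbb x hd hd'
    have h1 := hCA' _ (Subgroup.mul_mem _ hxC (hE.le_centralizer hw)) hxw
    simpa using E.mul_mem h1 (E.inv_mem hw)
  obtain ⟨a', ha'A, ha'E, han⟩ := hpart a haA haE
  have hfa := hfacts a a' haA haE ha'A han (hA2 a haA)
  have hle16 : Nat.card E ≤ 16 := by
    have := card_le_sq hE (hA2 a haA)
    rw [hfa.1] at this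
    omega
  obtain ⟨j, hj⟩ := exists_pow_card h2 E
  have hcases : Nat.card E = 8 ∨ Nat.card E = 16 := by
    rw [hj] at hle16 hE8 ⊢
    rcases j with _ | _ | _ | _ | _ | j
    · omega
    · omega
    · omega
    · exact Or.inl rfl
    · exact Or.inr rfl
    · have : 2 ^ 5 ≤ 2 ^ (j + 1 + 1 + 1 + 1 + 1) := Nat.pow_le_pow_right (by norm_num) (by omega)
      omega
  rcases hcases with h8 | h16
  · rw [h8] at hmax
    refine ext_two h2 hE h8 hmax hzE (fun b => b ∈ A ∧ b ∉ E) ⟨a, haA, haE⟩ (fun b hb => hA2 b hb.1) ?_ ?_ ?_ ?_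
    · rintro b ⟨hb, hbE⟩ u hu
      obtain ⟨b', hb', -, hn⟩ := hpart b hb hbE
      rw [← (hfacts b b' hb hbE hb' hn (hA2 b hb)).2.2.1 h8]
      exact ⟨⟨u, hu⟩, rfl⟩
    · intro u hu hc
      rw [← hE0]
      exact Subgroup.mem_inf.mpr ⟨hu, hmem haA haE ha'A han (hc a).symm (hc a').symm⟩
    · rintro x hxC hxE hd b ⟨hb, hbE⟩ hxz
      obtain ⟨b', hb', hb'E, hn⟩ := hpart b hb hbE
      rw [← (hfacts b b' hb hbE hb' hn (hA2 b hb)).2.2.1 h8] at hxz
      exact hxE (hCE b b' hb hbE hb' hn (hA2 b hb) x hxC hxz (hd b' ⟨hb', hb'E⟩))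
    · intro x hxC y hyC hxE hyE hxd hyd
      have haa := hA2 a haA
      have haa' := hA2 a' ha'A
      have him := hfa.2.2.1 h8
      have hcomE : ∀ u ∈ E, u * y = y * u := fun u hu => mem_centralizer_iff.mp hyC u hu
      have hprodd : ∀ c, c * c = 1 → dd c x ∈ E → dd c (x * y) = dd c x * dd c y := fun c hcc hd => by
        rw [dd_mul hcc, mul_assoc y⁻¹ (dd c x) y, hcomE _ hd, ← mul_assoc, inv_mul_cancel, one_mul]
      refine hCE a a' haA haE ha'A han haa _ (Subgroup.mul_mem _ hxC hyC) ?_ ?_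
      · rw [hprodd a haa (hxd a ⟨haA, haE⟩)]
        have hidx : ((im hE haa).range.subgroupOf (E ⊓ Subgroup.centralizer ({a} : Set G))).index = 2 := by
          have h := relIndex_mul_card (im_le_fix hE haa)
          rw [him, Nat.card_zpowers, hzo, hfa.1] at h
          show (im hE haa).range.relIndex _ = 2
          rw [him]
          omega
        exact (mul_mem_iff_of_index_two hidx
          (a := ⟨_, mem_fix.mpr ⟨hxd a ⟨haA, haE⟩, dd_fixed hE haa (hxd a ⟨haA, haE⟩)⟩⟩)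
          (b := ⟨_, mem_fix.mpr ⟨hyd a ⟨haA, haE⟩, dd_fixed hE haa (hyd a ⟨haA, haE⟩)⟩⟩)).mpr
          (iff_of_false
            (fun h => hxE (hCE a a' haA haE ha'A han haa x hxC h (hxd a' ⟨ha'A, ha'E⟩)))
            (fun h => hyE (hCE a a' haA haE ha'A han haa y hyC h (hyd a' ⟨ha'A, ha'E⟩))))
      · rw [hprodd a' haa' (hxd a' ⟨ha'A, ha'E⟩)]
        exact mul_mem (hxd a' ⟨ha'A, ha'E⟩) (hyd a' ⟨ha'A, ha'E⟩)
  · have himF : ∀ (b b' : G), b ∈ A → b ∉ E → b' ∈ A → (b' ≠ 1 ∧ b' ≠ z ∧ b' ≠ b ∧ b' ≠ z * b) →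
        ∀ hbb : b * b = 1, ∀ s, dd b s ∈ E → dd b s ∈ (im hE hbb).range := by
      intro b b' hb hbE hb' hn hbb s hs
      obtain ⟨h1, h1', -⟩ := hfacts b b' hb hbE hb' hn hbb
      rw [eq_of_le_of_card_ge (im_le_fix hE hbb) (by omega)]
      exact mem_fix.mpr ⟨hs, dd_fixed hE hbb hs⟩
    have haq : QuotientGroup.mk' E a ≠ 1 := fun h => haE ((QuotientGroup.eq_one_iff a).mp h)
    obtain ⟨zb, -, hzbo, hzbc⟩ := CfsgLib.TwoGroups.Classify.exists_central_involution (h2.to_quotient E)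
      (⊤ : Subgroup (G ⧸ E)) (fun e => haq (Subgroup.mem_bot.mp (e ▸ mem_top _)))
    have hzlift : ∀ k, QuotientGroup.mk' E k = zb → ∃ w ∈ E, k * w ∈ A ∧ k * w ∉ E := by
      intro k hk
      have hkc := mk_mem_center (E := E) (x := k) (hk ▸ hzbc)
      obtain ⟨w, hw, hkw⟩ := hL2 a a' haA haE ha'A han (hA2 a haA) k
        (himF a a' haA haE ha'A han (hA2 a haA) k (dd_mem_of_central hE.normal (hA2 a haA) hkc))
        (dd_mem_of_central hE.normal (hA2 a' ha'A) hkc)
      refine ⟨w, hw, hkw, fun h => ?_⟩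
      have hkE : k ∈ E := by simpa using E.mul_mem h (E.inv_mem hw)
      rw [show QuotientGroup.mk' E k = 1 from (QuotientGroup.eq_one_iff k).mpr hkE] at hk
      simp [← hk] at hzbo
    have hX : BoundBy (G ⧸ E) 4 := by
      obtain ⟨k0, hk0⟩ := QuotientGroup.mk'_surjective E zb
      obtain ⟨w, hw, hkwA, hkwE⟩ := hzlift k0 hk0
      set a1 := k0 * w with ha1
      have hmk : QuotientGroup.mk' E a1 = zb := by
        rw [ha1, map_mul, show QuotientGroup.mk' E w = 1 from (QuotientGroup.eq_one_iff w).mpr hw, mul_one, hk0]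
      obtain ⟨b, hb, hbE, n1, n2, n3, n4⟩ := hpart a1 hkwA hkwE
      have hn : a1 ≠ 1 ∧ a1 ≠ z ∧ a1 ≠ b ∧ a1 ≠ z * b :=
        ⟨fun h => hkwE (h ▸ one_mem E), fun h => hkwE (h ▸ hzE), Ne.symm n3,
          fun h => n4 (by rw [h, ← mul_assoc, hzz, one_mul])⟩
      have hbb := hA2 b hb
      refine boundBy_four (h2.to_quotient E) (a := QuotientGroup.mk' E b)
        (orderOf_eq_prime (by rw [← map_pow, pow_two, hbb, map_one])
          (fun h => hbE ((QuotientGroup.eq_one_iff b).mp h))) ?_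
      have hsub : Subgroup.centralizer ({QuotientGroup.mk' E b} : Set (G ⧸ E)) ≤ A.map (QuotientGroup.mk' E) := by
        intro x hx
        obtain ⟨s, rfl⟩ := QuotientGroup.mk'_surjective E x
        have hs : dd b s ∈ E := (mk_comm_iff hbb).mp (mem_centralizer_singleton_iff.mp hx)
        have hs1 : dd a1 s ∈ E := (mk_comm_iff (hA2 a1 hkwA)).mp (by
          rw [hmk]; exact mem_center_iff.mp hzbc _)
        obtain ⟨v, hv, hsv⟩ := hL2 b a1 hb hbE hkwA hn hbb s (himF b a1 hb hbE hkwA hn hbb s hs) hs1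
        refine Subgroup.mem_map.mpr ⟨s * v, hsv, ?_⟩
        rw [map_mul, show QuotientGroup.mk' E v = 1 from (QuotientGroup.eq_one_iff v).mpr hv, mul_one]
      refine le_trans (card_le_of_le hsub) ?_
      have h := card_eq_inf_mul_map (QuotientGroup.mk' E) A
      rw [QuotientGroup.ker_mk', inf_comm, h2A, hA8] at h
      omega
    have hCEeq : Subgroup.centralizer (E : Set G) = E := by
      by_contra hne'
      obtain ⟨c, hcC, hcE, -, hcc⟩ := exists_step h2 (lt_of_le_of_ne hE.le_centralizer (Ne.symm hne'))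
      exact hcE (hCE a a' haA haE ha'A han (hA2 a haA) c hcC
        (himF a a' haA haE ha'A han (hA2 a haA) c (dd_mem_of_central hE.normal (hA2 a haA) hcc))
        (dd_mem_of_central hE.normal (hA2 a' ha'A) hcc))
    intro K N hKN
    rw [relIndex_split (QuotientGroup.mk' E) hKN.1, QuotientGroup.ker_mk']
    have hX4 := hX _ _ (hKN.map (QuotientGroup.mk' E))
    have hle := relIndex_le_card (inf_le_inf_right E hKN.1)
    have hle2 : Nat.card (K ⊓ E : Subgroup G) ≤ 16 := h16 ▸ card_le_of_le inf_le_right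
    rcases Nat.lt_or_ge ((N.map (QuotientGroup.mk' E)).relIndex (K.map (QuotientGroup.mk' E))) 2 with h | hX2
    · calc _ ≤ 16 * 1 := Nat.mul_le_mul (by omega) (by omega)
        _ = 16 := rfl
    rcases Nat.lt_or_ge ((N ⊓ E).relIndex (K ⊓ E)) 5 with h | hE5
    · calc _ ≤ 4 * 4 := Nat.mul_le_mul (by omega) hX4
        _ = 16 := rfl
    rcases Nat.lt_or_ge ((N.map (QuotientGroup.mk' E)).relIndex (K.map (QuotientGroup.mk' E))) 3 with h | hX3
    · obtain ⟨m, hm⟩ := exists_pow_relIndex h2 (N ⊓ E) (K ⊓ E)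
      rcases Nat.lt_or_ge ((N ⊓ E).relIndex (K ⊓ E)) 9 with h' | h'
      · calc _ ≤ 8 * 2 := Nat.mul_le_mul (by omega) (by omega)
          _ = 16 := rfl
      exfalso
      have hm16 : (N ⊓ E).relIndex (K ⊓ E) = 16 := by
        rw [hm] at h' hle ⊢
        rcases m with _ | _ | _ | _ | m
        · omega
        · omega
        · omega
        · omega
        · have : 2 ^ 4 ≤ 2 ^ (m + 1 + 1 + 1 + 1) := Nat.pow_le_pow_right (by norm_num) (by omega)
          omega
      have hP := eq_bot_of_relIndex_eq (inf_le_inf_right E hKN.1) (by omega)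
      have hKE : E ≤ K := inf_eq_right.mp (eq_of_le_of_card_ge inf_le_right (by rw [h16]; omega))
      have hKle : K ≤ E := by
        intro k hk
        refine hCEeq ▸ mem_centralizer_iff.mpr fun u hu => ?_
        have h1 : k * u * k⁻¹ * u⁻¹ ∈ N ⊓ E := Subgroup.mem_inf.mpr ⟨hKN.comm_mem hk (hKE hu),
          E.mul_mem (hE.normal.conj_mem u hu k) (E.inv_mem hu)⟩
        rw [hP, Subgroup.mem_bot, mul_inv_eq_one, mul_inv_eq_iff_eq_mul] at h1
        exact h1.symm
      rw [show K.map (QuotientGroup.mk' E) = ⊥ by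
        rw [Subgroup.map_eq_bot_iff, QuotientGroup.ker_mk']; exact hKle, relIndex_bot_right] at hX2
      omega
    exfalso
    have hzK := central_mem hX (hKN.map (QuotientGroup.mk' E)) (by omega)
      (by rw [← pow_two, ← hzbo, pow_orderOf_eq_one]) hzbc
    obtain ⟨k, hk, hkz⟩ := Subgroup.mem_map.mp hzK
    obtain ⟨w, hw, hkwA, hkwE⟩ := hzlift k hkz
    obtain ⟨b', hb', -, hn⟩ := hpart _ hkwA hkwE
    refine no_thick hE h16 hKN hE5 hk (hA2 _ hkwA)
      (hfacts _ b' hkwA hkwE hb' hn (hA2 _ hkwA)).1.le ?_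
    simpa using hw

end CfsgLib.LocalEvenB.SelfCentralEight.Two
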