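import Cfsg.Agent.Lib.LocalEvenB.SelfCentralEight.Four
import Cfsg.Agent.Lib.LocalEvenB.SelfCentralEight.Two
import Cfsg.Agent.S0501

/-!
A 2-group with a self-centralising elementary abelian subgroup of order 8 has sectional rank at most 4
(Harada).
-/

set_option autoImplicit false

namespace CfsgLib.LocalEvenB.SelfCentralEight.Main

open Subgroup
open CfsgLib.LocalEvenB.SelfCentralEight.Sections CfsgLib.LocalEvenB.SelfCentralEight.Conj
open CfsgLib.LocalEvenB.SelfCentralEight.EightFinish

theorem sectional_le_four {S : Type*} [Group S] [Finite S] (h2 : IsPGroup 2 S) (A : Subgroup S)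
    (hAc : ∀ x ∈ A, ∀ y ∈ A, x * y = y * x) (hA2 : ∀ x ∈ A, x * x = 1) (hA8 : Nat.card A = 8)
    (hCA : Subgroup.centralizer (A : Set S) ≤ A) : Cfsg.SectionalPRankLE 2 4 S := by
  by_cases hsmall : ∀ B : Subgroup S, B.Normal → IsMulCommutative B → (∀ b ∈ B, b ^ 2 = 1) → Nat.card B ≤ 4
  · exact Cfsg.Agent.S0501.result h2 hsmall
  push_neg at hsmall
  obtain ⟨B, hBn, hBc, hB2, hB4⟩ := hsmall
  classical
  haveI : Fintype (Subgroup S) := Fintype.ofFinite _
  obtain ⟨E, hE', hmax'⟩ := Finset.exists_max_image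
    ((Finset.univ : Finset (Subgroup S)).filter fun L => NormalElem L) (fun L => Nat.card L)
    ⟨B, by simpa using NormalElem.of_elementary hBn hBc hB2⟩
  have hE : NormalElem E := by simpa using hE'
  have hmax : ∀ L : Subgroup S, NormalElem L → Nat.card L ≤ Nat.card E := fun L hL =>
    hmax' L (by simpa using hL)
  have hE8 : 8 ≤ Nat.card E := by
    have hB := hmax B (NormalElem.of_elementary hBn hBc hB2)
    obtain ⟨n, hn⟩ := exists_pow_card h2 E
    rw [hn] at hB ⊢
    rcases n with _ | _ | _ | n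
    · omega
    · omega
    · omega
    · exact le_trans (le_of_eq (by norm_num))
        (Nat.pow_le_pow_right (by norm_num) (show 3 ≤ n + 1 + 1 + 1 by omega))
  have := hE.normal
  refine sectional_of_boundBy (show BoundBy S (2 ^ 4) from ?_)
  have hd := card_dvd_of_le (inf_le_right : E ⊓ A ≤ A)
  rw [hA8] at hd
  obtain ⟨j, hj3, hj⟩ := (Nat.dvd_prime_pow Nat.prime_two).mp
    (show Nat.card (E ⊓ A : Subgroup S) ∣ 2 ^ 3 from hd)
  interval_cases j
  · exfalso
    have hne : E ≠ ⊥ := fun e => by rw [e, card_bot] at hE8; omega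
    obtain ⟨z, hzE, hzo, hzc⟩ := CfsgLib.TwoGroups.Classify.exists_central_involution h2 E hne
    have hzA : z ∈ A := hCA (mem_centralizer_iff.mpr fun v _ => mem_center_iff.mp hzc v)
    have hbot : E ⊓ A = ⊥ := eq_bot_of_card_eq _ (by simpa using hj)
    have h1 : z ∈ E ⊓ A := Subgroup.mem_inf.mpr ⟨hzE, hzA⟩
    rw [hbot, Subgroup.mem_bot] at h1
    simp [h1] at hzo
  · exact Two.main h2 hAc hA2 hA8 hCA hE hE8 hmax (by simpa using hj)
  · exact Four.main h2 hAc hA2 hA8 hCA hE hE8 hmax (by simpa using hj)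
  · have hEA : A ≤ E := inf_eq_right.mp (eq_of_le_of_card_ge inf_le_right (by rw [hA8, hj]; norm_num))
    have hAE : E = A := le_antisymm (fun x hx => hCA (mem_centralizer_iff.mpr fun v hv =>
      hE.comm v (hEA hv) x hx)) hEA
    refine finish h2 hE (hAE ▸ hA8) (Or.inl (le_antisymm ?_ hE.le_centralizer))
    rw [hAE]
    exact hCA

end CfsgLib.LocalEvenB.SelfCentralEight.Main
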