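import Cfsg.Agent.Lib.LocalEvenB.SelfCentralEight.DisjointFour
import Cfsg.Agent.S0501
import Mathlib.GroupTheory.SpecificGroups.Dihedral

/-!
A Sylow subgroup `T = D × B` of the centraliser of each involution of the four-group `B`.
-/

set_option autoImplicit false

namespace CfsgLib.LocalEvenB.SelfCentralEight.Product

open Subgroup
open scoped commutatorElement
open CfsgLib.LocalEvenB.SelfCentralEight.Sections CfsgLib.LocalEvenB.SelfCentralEight.Conj

variable {G : Type*} [Group G] [Finite G]

theorem cyclic_comm {H : Type*} [Group H] (hc : IsCyclic H) (p q : H) : p * q = q * p := by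
  obtain ⟨g, hg⟩ := hc.exists_generator
  obtain ⟨i, rfl⟩ := mem_zpowers_iff.mp (hg p)
  obtain ⟨j, rfl⟩ := mem_zpowers_iff.mp (hg q)
  exact (Commute.refl g).zpow_zpow i j

theorem boundBy_cyclic_half {R : Subgroup G} [R.Normal] (hc : IsCyclic R) (hi : R.index ≤ 2) :
    BoundBy G 4 := by
  intro K N h
  rw [relIndex_split (QuotientGroup.mk' R) h.1, QuotientGroup.ker_mk']
  have h1 : (N ⊓ R).relIndex (K ⊓ R) ≤ 2 :=
    relIndex_cyclic (isCyclic_of_injective (Subgroup.inclusion inf_le_right)
      (Subgroup.inclusion_injective _)) (h.inf R)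
  have h3 : (N.map (QuotientGroup.mk' R)).relIndex (K.map (QuotientGroup.mk' R)) ≤ 2 :=
    le_trans (relIndex_le_card (Subgroup.map_mono h.1)) (le_trans (card_le_card_group _) hi)
  exact Nat.mul_le_mul h1 h3

/-- The sections of a finite group are detected inside a Sylow 2-subgroup. -/
theorem boundBy_of_sylow (S : Sylow 2 G) (hb : BoundBy (S : Subgroup G) 16) :
    Cfsg.SectionalPRankLE 2 4 G := by
  haveI : Fact (Nat.Prime 2) := ⟨Nat.prime_two⟩
  refine sectional_of_boundBy (show BoundBy G (2 ^ 4) from ?_)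
  intro K N hKN
  have hpow : ∃ n, N.relIndex K = 2 ^ n := by
    haveI : (N.subgroupOf K).Normal := ⟨fun y hy g => hKN.conj_mem g.2 hy⟩
    have hP : IsPGroup 2 (K ⧸ N.subgroupOf K) := fun y => by
      obtain ⟨k, rfl⟩ := QuotientGroup.mk'_surjective _ y
      refine ⟨1, ?_⟩
      rw [← map_pow, QuotientGroup.mk'_apply, QuotientGroup.eq_one_iff, Subgroup.mem_subgroupOf,
        pow_one, Subgroup.coe_pow, pow_two]
      exact hKN.2 k k.2
    exact hP.exists_card_eq
  obtain ⟨n, hn⟩ := hpow
  let P : Sylow 2 K := default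
  set Q : Subgroup G := (P : Subgroup K).map K.subtype with hQ
  have hQK : Q ≤ K := map_subtype_le _
  have hQ2 : IsPGroup 2 Q := P.2.map _
  obtain ⟨g, hg⟩ : ∃ g : G, Q.map (MulAut.conj g).toMonoidHom ≤ (S : Subgroup G) := by
    obtain ⟨S', hS'⟩ := hQ2.exists_le_sylow
    obtain ⟨g, hg⟩ := MulAction.exists_smul_eq G S' S
    refine ⟨g, ?_⟩
    rintro _ ⟨u, hu, rfl⟩
    rw [← hg]
    exact ⟨u, hS' hu, rfl⟩
  set c : G →* G := (MulAut.conj g).toMonoidHom with hc
  have hcinj : Function.Injective c := (MulAut.conj g).injective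
  have hsec : Sec ((Q.map c).subgroupOf (S : Subgroup G)) (((Q ⊓ N).map c).subgroupOf (S : Subgroup G)) := by
    refine ⟨Subgroup.comap_mono (Subgroup.map_mono inf_le_left), ?_⟩
    rintro k ⟨u, hu, hku⟩
    refine ⟨u * u, Subgroup.mem_inf.mpr ⟨mul_mem hu hu, hKN.2 u (hQK hu)⟩, ?_⟩
    rw [map_mul, hku]
    rfl
  have h1 := hb _ _ hsec
  rw [relIndex_subgroupOf hg, relIndex_map_map_of_injective _ _ hcinj, inf_comm, inf_relIndex_right] at h1
  refine le_trans ?_ h1
  have hQcard : Nat.card Q = 2 ^ (Nat.card K).factorization 2 := by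
    rw [hQ, card_map_of_injective K.subtype_injective, P.card_eq_multiplicity]
  have hKcard := relIndex_mul_card hKN.1
  have hQN := relIndex_mul_card (inf_le_left : Q ⊓ N ≤ Q)
  rw [inf_comm Q N, inf_relIndex_right] at hQN
  obtain ⟨m, hm⟩ := (hQ2.to_le (inf_le_right : N ⊓ Q ≤ Q)).exists_card_eq
  obtain ⟨m', hm'⟩ := (hQ2).exists_card_eq
  have hdvd : 2 ^ m ∣ Nat.card N := hm ▸ card_dvd_of_le inf_le_left
  rw [hn] at hKcard
  rw [hn]
  have hN0 : Nat.card N ≠ 0 := Nat.card_pos.ne'
  have hfac : (Nat.card K).factorization 2 = n + (Nat.card N).factorization 2 := by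
    rw [← hKcard, Nat.factorization_mul (by positivity) hN0, Finsupp.add_apply,
      Nat.Prime.factorization_pow Nat.prime_two, Finsupp.single_eq_same]
  have hmle : m ≤ (Nat.card N).factorization 2 :=
    (Nat.Prime.pow_dvd_iff_le_factorization Nat.prime_two hN0).mp hdvd
  rw [hQcard, hm, hfac] at hQN
  obtain ⟨r, hr⟩ : ∃ r, N.relIndex Q = 2 ^ r := by
    haveI : Finite Q := inferInstance
    exact hQ2.index (N.subgroupOf Q)
  rw [hr, ← pow_add] at hQN
  have := Nat.pow_right_injective le_rfl hQN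
  rw [hr]
  exact Nat.pow_le_pow_right (by norm_num) (by omega)

theorem two_group (h2 : IsPGroup 2 G) (T D B : Subgroup G)
    (hDT : D ≤ T) (hBT : B ≤ T) (hcomm : ∀ a ∈ D, ∀ b ∈ B, a * b = b * a) (hdis : D ⊓ B = ⊥)
    (hsup : D ⊔ B = T) (hBc : ∀ x ∈ B, ∀ y ∈ B, x * y = y * x) (hB2 : ∀ x ∈ B, x * x = 1)
    (hB4 : Nat.card B = 4)
    (hR : ∃ R : Subgroup D, IsCyclic R ∧ R.index ≤ 2)
    (habel : (∀ x ∈ D, ∀ y ∈ D, x * y = y * x) → Nat.card D = 4 ∧ ∀ x ∈ D, x * x = 1)
    (hb : ∀ b ∈ B, b ≠ 1 → Subgroup.centralizer ({b} : Set G) ≤ T) : BoundBy G 16 := by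
  have hDn : D ≤ Subgroup.normalizer (B : Set G) := fun d hd => mem_normalizer_fintype (fun b hb' => by
    rw [hcomm d hd b hb', mul_inv_cancel_right]; exact hb')
  have hdec : ∀ t ∈ T, ∃ d ∈ D, ∃ b ∈ B, t = d * b := by
    intro t ht
    rw [← hsup] at ht
    have h : t ∈ (↑(D ⊔ B) : Set G) := ht
    rw [Subgroup.coe_mul_of_left_le_normalizer_right D B hDn] at h
    obtain ⟨d, hd, b, hb', rfl⟩ := h
    exact ⟨d, hd, b, hb', rfl⟩
  have hBZ : ∀ b ∈ B, ∀ t ∈ T, t * b = b * t := by
    intro b hb' t ht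
    obtain ⟨d, hd, b', hb'', rfl⟩ := hdec t ht
    rw [mul_assoc, hBc b' hb'' b hb', ← mul_assoc, hcomm d hd b hb', mul_assoc]
  by_cases hTtop : T = ⊤
  · haveI : B.Normal := ⟨fun b hb' g => by
      rw [hBZ b hb' g (hTtop ▸ mem_top g), mul_inv_cancel_right]; exact hb'⟩
    obtain ⟨R, hRc, hRi⟩ := hR
    haveI := hRc
    have hsur : Function.Surjective ((QuotientGroup.mk' B).comp D.subtype) := by
      intro y
      obtain ⟨g, rfl⟩ := QuotientGroup.mk'_surjective B y
      obtain ⟨d, hd, b, hb', rfl⟩ := hdec g (hTtop ▸ mem_top g)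
      refine ⟨⟨d, hd⟩, ?_⟩
      rw [map_mul, show QuotientGroup.mk' B b = 1 from (QuotientGroup.eq_one_iff b).mpr hb', mul_one]
      rfl
    have hR' : (R.map ((QuotientGroup.mk' B).comp D.subtype)).index ≤ 2 :=
      le_trans (Nat.le_of_dvd (Nat.pos_of_ne_zero R.index_ne_zero_of_finite) (index_map_dvd R hsur)) hRi
    haveI : (R.map ((QuotientGroup.mk' B).comp D.subtype)).Normal := by
      have hpos := Nat.pos_of_ne_zero (R.map ((QuotientGroup.mk' B).comp D.subtype)).index_ne_zero_of_finite
      rcases (show (R.map ((QuotientGroup.mk' B).comp D.subtype)).index = 1 ∨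
          (R.map ((QuotientGroup.mk' B).comp D.subtype)).index = 2 by omega) with h | h
      · rw [index_eq_one.mp h]; infer_instance
      · exact normal_of_index_eq_two h
    have hcyc : IsCyclic (R.map ((QuotientGroup.mk' B).comp D.subtype)) :=
      isCyclic_of_surjective _ (((QuotientGroup.mk' B).comp D.subtype).subgroupMap_surjective R)
    have hX := boundBy_cyclic_half hcyc hR'
    intro K N h
    rw [relIndex_split (QuotientGroup.mk' B) h.1, QuotientGroup.ker_mk']
    calc _ ≤ 4 * 4 := Nat.mul_le_mul ((relIndex_le_card (inf_le_inf_right B h.1)).trans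
          (hB4 ▸ card_le_of_le inf_le_right)) (hX _ _ (h.map _))
      _ = 16 := rfl
  obtain ⟨s, hsT, hss, hsn⟩ : ∃ s, s ∉ T ∧ s * s ∈ T ∧ s ∈ Subgroup.normalizer (T : Set G) := by
    haveI : Fact (Nat.Prime 2) := ⟨Nat.prime_two⟩
    haveI := h2.isNilpotent
    have hlt := Group.normalizerCondition_of_isNilpotent (G := G) T (lt_top_iff_ne_top.mpr hTtop)
    set M := Subgroup.normalizer (T : Set G) with hM
    have hlt' : T.subgroupOf M < ⊤ := lt_top_iff_ne_top.mpr (fun e => hlt.not_ge (subgroupOf_eq_top.mp e))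
    haveI : (T.subgroupOf M).Normal := Subgroup.normal_in_normalizer
    obtain ⟨m, -, hm, hmm, -⟩ := exists_step (h2.to_subgroup M) hlt'
    exact ⟨m, hm, hmm, m.2⟩
  have hTab : ∀ x ∈ T, ∀ y ∈ T, x * y = y * x := by
    by_contra hna
    set M := Subgroup.normalizer (T : Set G) with hM
    have hTT : ⁅T, T⁆ ≤ D := by
      rw [Subgroup.commutator_le]
      intro p hp q hq
      obtain ⟨d, hd, b, hb', rfl⟩ := hdec p hp
      obtain ⟨d', hd', b', hb'', rfl⟩ := hdec q hq
      have e : ⁅d * b, d' * b'⁆ = d * d' * d⁻¹ * d'⁻¹ := by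
        rw [commutatorElement_def]
        calc d * b * (d' * b') * (d * b)⁻¹ * (d' * b')⁻¹
            = d * (b * (d' * b')) * b⁻¹ * d⁻¹ * (d' * b')⁻¹ := by group
          _ = d * ((d' * b') * b) * b⁻¹ * d⁻¹ * (d' * b')⁻¹ := by
              rw [← hBZ b hb' _ (mul_mem (hDT hd') (hBT hb''))]
          _ = d * d' * (b' * d⁻¹) * (d' * b')⁻¹ := by group
          _ = d * d' * (d⁻¹ * b') * (d' * b')⁻¹ := by rw [hcomm d⁻¹ (inv_mem hd) b' hb'']
          _ = _ := by group
      rw [e]
      exact mul_mem (mul_mem (mul_mem hd hd') (inv_mem hd)) (inv_mem hd')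
    have hTTne : ⁅T, T⁆ ≠ ⊥ := fun e => hna fun p hp q hq => by
      have h1 := Subgroup.commutator_mem_commutator hp hq
      rw [e, Subgroup.mem_bot, commutatorElement_eq_one_iff_mul_comm] at h1
      exact h1
    have hTTM : ⁅T, T⁆ ≤ M := (hTT.trans hDT).trans Subgroup.le_normalizer
    haveI : ((⁅T, T⁆).subgroupOf M).Normal := by
      refine ⟨fun w hw g => ?_⟩
      have hTg : T.map (MulAut.conj (g : G)).toMonoidHom ≤ T := by
        rintro _ ⟨t, ht, rfl⟩
        exact (mem_normalizer_iff.mp g.2 t).mp ht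
      have h1 : (MulAut.conj (g : G)).toMonoidHom (w : G) ∈ ⁅T, T⁆.map (MulAut.conj (g : G)).toMonoidHom :=
        mem_map_of_mem _ hw
      rw [Subgroup.map_commutator] at h1
      exact Subgroup.commutator_mono hTg hTg h1
    have hne : (⁅T, T⁆).subgroupOf M ≠ ⊥ := fun e => by
      apply hTTne
      rw [subgroupOf_eq_bot, disjoint_iff, inf_eq_left.mpr hTTM] at e
      exact e
    obtain ⟨zM, hzT', hzo, hzc⟩ :=
      CfsgLib.TwoGroups.Classify.exists_central_involution (h2.to_subgroup M) _ hne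
    set z : G := (zM : G) with hz
    have hzD : z ∈ D := hTT hzT'
    have hz1 : z ≠ 1 := fun e => by
      have : zM = 1 := Subtype.ext e
      simp [this] at hzo
    have hzz : z * z = 1 := by
      have := pow_orderOf_eq_one zM
      rw [hzo, pow_two] at this
      exact congrArg Subtype.val this
    have hzM : ∀ g ∈ M, g * z = z * g := fun g hg =>
      congrArg Subtype.val (mem_center_iff.mp hzc ⟨g, hg⟩)
    obtain ⟨R, hRc, hRi⟩ := hR
    have huniq : ∀ u : D, u * u = 1 → u ≠ 1 → (∀ d : D, u * d = d * u) → (u : G) = z := by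
      have hRne : R.index = 2 := by
        have := Nat.pos_of_ne_zero R.index_ne_zero_of_finite
        rcases (show R.index = 1 ∨ R.index = 2 by omega) with h | h
        · exfalso
          apply hna
          have hRt := index_eq_one.mp h
          intro p hp q hq
          obtain ⟨d, hd, b, hb', rfl⟩ := hdec p hp
          obtain ⟨d', hd', b', hb'', rfl⟩ := hdec q hq
          have hdd : d * d' = d' * d := congrArg (fun r : R => ((r : D) : G))
            (cyclic_comm hRc (⟨⟨d, hd⟩, hRt ▸ mem_top _⟩ : R) ⟨⟨d', hd'⟩, hRt ▸ mem_top _⟩)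
          calc d * b * (d' * b') = d * (b * (d' * b')) := by group
            _ = d * ((d' * b') * b) := by rw [← hBZ b hb' _ (mul_mem (hDT hd') (hBT hb''))]
            _ = d * d' * (b' * b) := by group
            _ = d' * (d * b') * b := by rw [hdd]; group
            _ = d' * (b' * d) * b := by rw [hcomm d hd b' hb'']
            _ = _ := by group
        · exact h
      have hinR : ∀ u : D, (∀ d : D, u * d = d * u) → u ∈ R := by
        intro u hu
        by_contra huR
        apply hna
        have hRcomm : ∀ p ∈ R, ∀ q ∈ R, p * q = q * p := fun p hp q hq =>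
          congrArg Subtype.val (cyclic_comm hRc (⟨p, hp⟩ : R) ⟨q, hq⟩)
        have hDcomm : ∀ p q : D, p * q = q * p := by
          intro p q
          have hsplit : ∀ d : D, ∃ r ∈ R, d = r ∨ d = u * r := fun d => by
            by_cases hd : d ∈ R
            · exact ⟨d, hd, Or.inl rfl⟩
            · refine ⟨u⁻¹ * d, ?_, Or.inr (by group)⟩
              exact (mul_mem_iff_of_index_two hRne).mpr (iff_of_false (fun h => huR (by simpa using R.inv_mem h)) hd)
          obtain ⟨r, hr, hp⟩ := hsplit p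
          obtain ⟨r', hr', hq⟩ := hsplit q
          have hc := hRcomm r hr r' hr'
          rcases hp with rfl | rfl <;> rcases hq with rfl | rfl
          · exact hc
          · exact Commute.mul_right (show Commute p u from (hu p).symm) hc
          · exact Commute.mul_left (hu q) hc
          · exact Commute.mul_left (Commute.mul_right (Commute.refl u) (hu r'))
              (Commute.mul_right (show Commute r u from (hu r).symm) hc)
        intro p hp q hq
        obtain ⟨d, hd, b, hb', rfl⟩ := hdec p hp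
        obtain ⟨d', hd', b', hb'', rfl⟩ := hdec q hq
        have hdd : d * d' = d' * d := congrArg Subtype.val (hDcomm ⟨d, hd⟩ ⟨d', hd'⟩)
        calc d * b * (d' * b') = d * (b * (d' * b')) := by group
          _ = d * ((d' * b') * b) := by rw [← hBZ b hb' _ (mul_mem (hDT hd') (hBT hb''))]
          _ = d * d' * (b' * b) := by group
          _ = d' * (d * b') * b := by rw [hdd]; group
          _ = d' * (b' * d) * b := by rw [hcomm d hd b' hb'']
          _ = _ := by group
      intro u huu hu1 hu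
      have hzcD : ∀ d : D, (⟨z, hzD⟩ : D) * d = d * ⟨z, hzD⟩ := fun d =>
        Subtype.ext (hzM d (Subgroup.le_normalizer (hDT d.2))).symm
      obtain ⟨r, hr⟩ := hRc.exists_generator
      haveI := hRc
      have h1 : (⟨u, hinR u hu⟩ : R) ∈ {v : R | v * v = 1 ∧ v ≠ 1} :=
        ⟨Subtype.ext huu, fun e => hu1 (congrArg Subtype.val e)⟩
      have h3 : (⟨⟨z, hzD⟩, hinR _ hzcD⟩ : R) ∈ {v : R | v * v = 1 ∧ v ≠ 1} :=
        ⟨Subtype.ext (Subtype.ext hzz), fun e => hz1 (congrArg (fun v : R => ((v : D) : G)) e)⟩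
      classical
      haveI : Fintype R := Fintype.ofFinite R
      have hle := IsCyclic.card_pow_eq_one_le (α := R) (n := 2) (by norm_num)
      by_contra hne
      have hsub : ({1, ⟨u, hinR u hu⟩, ⟨⟨z, hzD⟩, hinR _ hzcD⟩} : Finset R) ⊆
          ({v : R | v ^ 2 = 1} : Finset R) := by
        intro v hv
        simp only [Finset.mem_insert, Finset.mem_singleton] at hv
        simp only [Finset.mem_filter, Finset.mem_univ, true_and]
        rcases hv with rfl | rfl | rfl
        · simp
        · rw [pow_two]; exact h1.1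
        · rw [pow_two]; exact h3.1
      have hc3 : ({1, ⟨u, hinR u hu⟩, ⟨⟨z, hzD⟩, hinR _ hzcD⟩} : Finset R).card = 3 := by
        rw [Finset.card_insert_of_notMem, Finset.card_insert_of_notMem, Finset.card_singleton]
        · simp only [Finset.mem_singleton]
          exact fun e => hne (congrArg (fun v : R => ((v : D) : G)) e)
        · simp only [Finset.mem_insert, Finset.mem_singleton]
          rintro (e | e)
          · exact h1.2 e.symm
          · exact h3.2 e.symm
      have := Finset.card_le_card hsub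
      omega
    have hact : ∀ b ∈ B, ∃ c, (c = 1 ∨ c = z) ∧ ∃ b' ∈ B, s * b * s⁻¹ = c * b' := by
      intro b hb'
      have hmem : s * b * s⁻¹ ∈ T := (mem_normalizer_iff.mp hsn b).mp (hBT hb')
      obtain ⟨d, hd, b', hb'', he⟩ := hdec _ hmem
      refine ⟨d, ?_, b', hb'', he⟩
      by_cases hd1 : d = 1
      · exact Or.inl hd1
      refine Or.inr (huniq ⟨d, hd⟩ (Subtype.ext ?_) (fun e => hd1 (congrArg Subtype.val e)) fun e => Subtype.ext ?_)
      · have h1 : (s * b * s⁻¹) * (s * b * s⁻¹) = 1 := by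
          rw [show s * b * s⁻¹ * (s * b * s⁻¹) = s * (b * b) * s⁻¹ by group, hB2 b hb', mul_one, mul_inv_cancel]
        rw [he, show d * b' * (d * b') = d * (b' * d) * b' by group, ← hcomm d hd b' hb'',
          show d * (d * b') * b' = d * d * (b' * b') by group, hB2 b' hb'', mul_one] at h1
        exact h1
      · show d * e = (e : G) * d
        have he' : d = s * b * s⁻¹ * b' := by rw [he, mul_assoc, hB2 b' hb'', mul_one]
        have heT : (e : G) ∈ T := hDT e.2
        have hse : s⁻¹ * e * s ∈ T := by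
          have := (mem_normalizer_iff.mp (inv_mem hsn) (e : G)).mp heT
          simpa using this
        have h1 : s * b * s⁻¹ * e = e * (s * b * s⁻¹) := by
          calc s * b * s⁻¹ * e = s * (b * (s⁻¹ * e * s)) * s⁻¹ := by group
            _ = s * ((s⁻¹ * e * s) * b) * s⁻¹ := by rw [hBZ b hb' _ hse]
            _ = _ := by group
        rw [he', mul_assoc (s * b * s⁻¹) b', ← hBZ b' hb'' _ heT, ← mul_assoc, h1, mul_assoc]
    have hfixed : ∀ b ∈ B, b ≠ 1 → s * b * s⁻¹ ≠ b := fun b hb' hb1 h =>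
      hsT (hb b hb' hb1 (mem_centralizer_singleton_iff.mpr (mul_inv_eq_iff_eq_mul.mp h)))
    have hzb : ∀ b ∈ B, b ≠ 1 → s * b * s⁻¹ = z * b := by
      intro b hb' hb1
      obtain ⟨c, hc, b', hb'', he⟩ := hact b hb'
      by_cases hbb : b' = b
      · subst hbb
        rcases hc with rfl | rfl
        · exact absurd (by rw [he, one_mul]) (hfixed _ hb' hb1)
        · exact he
      exfalso
      have hsM : s ∈ M := hsn
      have hcs : s * c * s⁻¹ = c := by
        rcases hc with rfl | rfl
        · group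
        · rw [hzM s hsM, mul_inv_cancel_right]
      have hcc : c * c = 1 := by rcases hc with rfl | rfl <;> simp [hzz]
      have hsb' : s * b' * s⁻¹ = c * b := by
        have h1 : b' = c * (s * b * s⁻¹) := by rw [he, ← mul_assoc, hcc, one_mul]
        rw [h1]
        calc s * (c * (s * b * s⁻¹)) * s⁻¹ = (s * c * s⁻¹) * ((s * s) * b * (s * s)⁻¹) := by group
          _ = c * b := by rw [hcs, hBZ b hb' _ hss, mul_inv_cancel_right]
      refine hfixed (b' * b) (mul_mem hb'' hb') (fun h => hbb ?_) ?_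
      · exact (eq_inv_of_mul_eq_one_left h).trans (inv_eq_of_mul_eq_one_right (hB2 b hb'))
      · have hcb : b * c = c * b := by
          rcases hc with rfl | rfl
          · simp
          · exact (hcomm z hzD b hb').symm
        calc s * (b' * b) * s⁻¹ = (s * b' * s⁻¹) * (s * b * s⁻¹) := by group
          _ = c * (b * c) * b' := by rw [hsb', he]; group
          _ = (c * c) * (b * b') := by rw [hcb]; group
          _ = b' * b := by rw [hcc, one_mul, hBc b hb' b' hb'']
    obtain ⟨b, hbB, hb1, b', hb'B, hb'1, hbne⟩ : ∃ b ∈ B, b ≠ 1 ∧ ∃ b' ∈ B, b' ≠ 1 ∧ b' ≠ b := by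
      classical
      haveI : Fintype B := Fintype.ofFinite B
      obtain ⟨p, q, w, hpq, hpw, hqw⟩ := Fintype.two_lt_card_iff.mp
        (show 2 < Fintype.card B by rw [← Nat.card_eq_fintype_card]; omega)
      by_cases hp : p = 1
      · exact ⟨q, q.2, fun h => hpq (hp.trans (Subtype.ext h).symm), w, w.2,
          fun h => hpw (hp.trans (Subtype.ext h).symm), fun h => hqw (Subtype.ext h.symm)⟩
      · by_cases hq : q = 1
        · exact ⟨p, p.2, fun h => hp (Subtype.ext h), w, w.2,
            fun h => hqw (hq.trans (Subtype.ext h).symm), fun h => hpw (Subtype.ext h.symm)⟩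
        · exact ⟨p, p.2, fun h => hp (Subtype.ext h), q, q.2, fun h => hq (Subtype.ext h),
            fun h => hpq (Subtype.ext h.symm)⟩
    refine hfixed (b * b') (mul_mem hbB hb'B) (fun h => hbne ?_) ?_
    · exact (eq_inv_of_mul_eq_one_right h).trans (inv_eq_of_mul_eq_one_right (hB2 b hbB))
    · calc s * (b * b') * s⁻¹ = (s * b * s⁻¹) * (s * b' * s⁻¹) := by group
        _ = z * (b * z) * b' := by rw [hzb b hbB hb1, hzb b' hb'B hb'1]; group
        _ = (z * z) * (b * b') := by rw [← hcomm z hzD b hbB]; group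
        _ = _ := by rw [hzz, one_mul]
  obtain ⟨hD4, hD2⟩ := habel fun x hx y hy => hTab x (hDT hx) y (hDT hy)
  have hT2 : ∀ t ∈ T, t * t = 1 := by
    intro t ht
    obtain ⟨d, hd, b, hb', rfl⟩ := hdec t ht
    calc d * b * (d * b) = d * (b * d) * b := by group
      _ = (d * d) * (b * b) := by rw [← hcomm d hd b hb']; group
      _ = 1 := by rw [hD2 d hd, hB2 b hb', one_mul]
  have hT16 : Nat.card T = 16 := by
    let F : D × B → T := fun p => ⟨p.1 * p.2, mul_mem (hDT p.1.2) (hBT p.2.2)⟩
    have hF : Function.Bijective F := by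
      refine ⟨?_, fun t => ?_⟩
      · rintro ⟨d, b⟩ ⟨d', b'⟩ h
        have h' : (d : G) * b = d' * b' := congrArg Subtype.val h
        have hw : (d' : G)⁻¹ * d = b' * (b : G)⁻¹ := by
          calc (d' : G)⁻¹ * d = (d' : G)⁻¹ * (d * b) * (b : G)⁻¹ := by group
            _ = _ := by rw [h']; group
        have hmem : (b' : G) * (b : G)⁻¹ ∈ D ⊓ B := Subgroup.mem_inf.mpr
          ⟨hw ▸ D.mul_mem (D.inv_mem d'.2) d.2, B.mul_mem b'.2 (B.inv_mem b.2)⟩
        rw [hdis, Subgroup.mem_bot, mul_inv_eq_one] at hmem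
        rw [hmem] at h'
        exact Prod.ext (Subtype.ext (mul_right_cancel h')) (Subtype.ext hmem.symm)
      · obtain ⟨d, hd, b, hb', he⟩ := hdec t t.2
        exact ⟨(⟨d, hd⟩, ⟨b, hb'⟩), Subtype.ext he.symm⟩
    rw [← Nat.card_eq_of_bijective F hF, Nat.card_prod, hD4, hB4]
  by_cases hsmall : ∀ A : Subgroup G, A.Normal → IsMulCommutative A → (∀ a ∈ A, a ^ 2 = 1) → Nat.card A ≤ 4
  · have hr := Cfsg.Agent.S0501.result h2 hsmall
    intro K N hKN
    haveI : (N.subgroupOf K).Normal := ⟨fun y hy g => hKN.conj_mem g.2 hy⟩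
    have h1 := hr K (N.subgroupOf K) ⊤ ⟨⟨?_⟩⟩ ?_
    · rwa [card_top] at h1
    · rintro ⟨p, -⟩ ⟨q, -⟩
      obtain ⟨k, rfl⟩ := QuotientGroup.mk'_surjective _ p
      obtain ⟨k', rfl⟩ := QuotientGroup.mk'_surjective _ q
      refine Subtype.ext ?_
      show QuotientGroup.mk' (N.subgroupOf K) k * QuotientGroup.mk' _ k' = QuotientGroup.mk' _ k' * QuotientGroup.mk' _ k
      rw [← map_mul, ← map_mul, QuotientGroup.mk'_apply, QuotientGroup.mk'_apply, QuotientGroup.eq,
        Subgroup.mem_subgroupOf]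
      push_cast
      simpa [mul_assoc] using hKN.comm_mem (inv_mem k'.2) (inv_mem k.2)
    · intro p _
      obtain ⟨k, rfl⟩ := QuotientGroup.mk'_surjective _ p
      rw [← map_pow, QuotientGroup.mk'_apply, QuotientGroup.eq_one_iff, Subgroup.mem_subgroupOf,
        Subgroup.coe_pow, pow_two]
      exact hKN.2 k k.2
  push_neg at hsmall
  obtain ⟨A, hAn, hAc, hA2, hA4⟩ := hsmall
  classical
  haveI : Fintype (Subgroup G) := Fintype.ofFinite _
  obtain ⟨E, hE', hmax'⟩ := Finset.exists_max_image
    ((Finset.univ : Finset (Subgroup G)).filter fun L => NormalElem L) (fun L => Nat.card L)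
    ⟨A, by simpa using NormalElem.of_elementary hAn hAc hA2⟩
  have hE : NormalElem E := by simpa using hE'
  have hmax : ∀ L : Subgroup G, NormalElem L → Nat.card L ≤ Nat.card E := fun L hL =>
    hmax' L (by simpa using hL)
  have hE8 : 8 ≤ Nat.card E := by
    have hA' := hmax A (NormalElem.of_elementary hAn hAc hA2)
    obtain ⟨n, hn⟩ := exists_pow_card h2 E
    rw [hn] at hA' ⊢
    rcases n with _ | _ | _ | n
    · omega
    · omega
    · omega
    · exact le_trans (le_of_eq (by norm_num))
        (Nat.pow_le_pow_right (by norm_num) (show 3 ≤ n + 1 + 1 + 1 by omega))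
  by_cases hEB : E ⊓ B = ⊥
  · exact DisjointFour.main h2 hTab hT2 hT16 hBT hB4 hb hE hE8 hmax hEB
  obtain ⟨b, hbEB, hb1⟩ : ∃ b ∈ E ⊓ B, b ≠ 1 := by
    by_contra! h
    exact hEB ((eq_bot_iff_forall _).mpr h)
  obtain ⟨hbE, hbB⟩ := Subgroup.mem_inf.mp hbEB
  have hET : E ≤ T := fun u hu => hb b hbB hb1 (mem_centralizer_singleton_iff.mpr (hE.comm u hu b hbE))
  haveI := hE.normal
  have hCE : Subgroup.centralizer (E : Set G) = T := le_antisymm
    (fun u hu => hb b hbB hb1 (mem_centralizer_singleton_iff.mpr (mem_centralizer_iff.mp hu b hbE).symm))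
    (fun t ht => mem_centralizer_iff.mpr fun u hu => hTab u (hET hu) t ht)
  haveI : T.Normal := hCE ▸ Subgroup.normal_centralizer
  have hTne : NormalElem T := ⟨inferInstance, hTab, hT2⟩
  exact SelfNormalSixteen.main h2 hTne hT16 hBT hB4 hb

end CfsgLib.LocalEvenB.SelfCentralEight.Product
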