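import Cfsg.Agent.Lib.LocalEvenB.SelfCentralEight.Main
import Mathlib.GroupTheory.SpecificGroups.Quaternion

/-!
A self-centralising central product of two quaternion groups of order 8.
-/

set_option autoImplicit false

namespace CfsgLib.LocalEvenB.SelfCentralEight.QuaternionPair

open Subgroup
open CfsgLib.LocalEvenB.SelfCentralEight.Sections CfsgLib.LocalEvenB.SelfCentralEight.Conj

/-- Two commuting pairs of anticommuting elements of order 4 with the same square. -/
structure Pairs {G : Type*} [Group G] (z i j k l : G) : Prop where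
  zz : z * z = 1
  ne : z ≠ 1
  zc : ∀ g : G, g * z = z * g
  comm : ∀ g h : G, g * h * g⁻¹ * h⁻¹ ∈ Subgroup.zpowers z
  ii : i * i = z
  jj : j * j = z
  kk : k * k = z
  ll : l * l = z
  ji : j * i = z * i * j
  lk : l * k = z * k * l
  ik : i * k = k * i
  il : i * l = l * i
  jk : j * k = k * j
  jl : j * l = l * j

variable {G : Type*} [Group G] {z i j k l : G}

theorem Pairs.iu (P : Pairs z i j k l) : i * (i * k) = (i * k) * i := by
  rw [mul_assoc, ← P.ik]

theorem Pairs.jv (P : Pairs z i j k l) : j * (j * l) = (j * l) * j := by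
  rw [mul_assoc, ← P.jl]

theorem Pairs.ju (P : Pairs z i j k l) : j * (i * k) = z * ((i * k) * j) := by
  rw [← mul_assoc, P.ji, mul_assoc (z * i) j k, P.jk]; group

theorem Pairs.iv (P : Pairs z i j k l) : i * (j * l) = z * ((j * l) * i) := by
  rw [mul_assoc j l i, ← P.il, ← mul_assoc j i l, P.ji]
  calc i * (j * l) = (z * z) * (i * j * l) := by rw [P.zz]; group
    _ = _ := by group

theorem Pairs.uv (P : Pairs z i j k l) : (i * k) * (j * l) = (j * l) * (i * k) := by
  symm
  calc (j * l) * (i * k) = j * (l * i) * k := by group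
    _ = j * (i * l) * k := by rw [P.il]
    _ = (j * i) * (l * k) := by group
    _ = (z * i * j) * (z * k * l) := by rw [P.ji, P.lk]
    _ = z * ((i * j) * z) * (k * l) := by group
    _ = z * (z * (i * j)) * (k * l) := by rw [P.zc]
    _ = (z * z) * (i * (j * k) * l) := by group
    _ = i * (k * j) * l := by rw [P.zz, P.jk, one_mul]
    _ = _ := by group

theorem Pairs.uu (P : Pairs z i j k l) : (i * k) * (i * k) = 1 := by
  calc (i * k) * (i * k) = i * (k * i) * k := by group
    _ = i * (i * k) * k := by rw [P.ik]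
    _ = (i * i) * (k * k) := by group
    _ = 1 := by rw [P.ii, P.kk, P.zz]

theorem Pairs.vv (P : Pairs z i j k l) : (j * l) * (j * l) = 1 := by
  calc (j * l) * (j * l) = j * (l * j) * l := by group
    _ = j * (j * l) * l := by rw [P.jl]
    _ = (j * j) * (l * l) := by group
    _ = 1 := by rw [P.jj, P.ll, P.zz]

theorem not_comm (P : Pairs z i j k l) {x w : G} (h : x * w = z * (w * x)) : x * w ≠ w * x :=
  fun e => P.ne (mul_eq_right.mp ((e.symm.trans h).symm))

theorem Pairs.zv (P : Pairs z i j k l) {x : G} (hx : x ∈ Subgroup.zpowers z) : x = 1 ∨ x = z := by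
  obtain ⟨n, rfl⟩ := mem_zpowers_iff.mp hx
  rcases Int.even_or_odd' n with ⟨t, rfl | rfl⟩
  · left; rw [zpow_mul, zpow_two, P.zz, one_zpow]
  · right; rw [zpow_add_one, zpow_mul, zpow_two, P.zz, one_zpow, one_mul]

/-- The elementary subgroup attached to the pairing. -/
theorem exists_eight [Finite G] (h32 : Nat.card G = 32) (P : Pairs z i j k l) :
    ∃ A : Subgroup G, A.Normal ∧ Nat.card A = 8 ∧ (∀ x ∈ A, ∀ y ∈ A, x * y = y * x) ∧
      (∀ x ∈ A, x * x = 1) ∧ z ∈ A ∧ i * k ∈ A ∧ j * l ∈ A ∧ Subgroup.centralizer (A : Set G) ≤ A ∧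
      (∀ g : G, ∃ a ∈ A, g = a ∨ g = a * i ∨ g = a * j ∨ g = a * (i * j)) ∧
      (∀ a ∈ A, (a ∈ Subgroup.zpowers z ∨ (∃ c ∈ Subgroup.zpowers z, a = c * (i * k))) ∨
        ∃ b : G, (b ∈ Subgroup.zpowers z ∨ (∃ c ∈ Subgroup.zpowers z, b = c * (i * k))) ∧ a = b * (j * l)) := by
  have hzcen : z ∈ Subgroup.center G := mem_center_iff.mpr P.zc
  haveI := CfsgLib.TwoGroups.Classify.normal_zpowers_of_central hzcen
  have hz2 : Nat.card (Subgroup.zpowers z) = 2 := by
    rw [Nat.card_zpowers]; exact orderOf_eq_prime ((pow_two z).trans P.zz) P.ne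
  have hu : (i * k) * (i * k) ∈ Subgroup.zpowers z := by rw [P.uu]; exact one_mem _
  have hju := not_comm P P.ju
  have hiv := not_comm P P.iv
  have hcz : ∀ x : G, ∀ c ∈ Subgroup.zpowers z, x * c = c * x := fun x c hc => by
    rcases P.zv hc with rfl | rfl
    · simp
    · exact P.zc x
  have hun : i * k ∉ Subgroup.zpowers z := fun h => hju (hcz j _ h)
  set B := Subgroup.zpowers z ⊔ Subgroup.zpowers (i * k) with hB
  haveI hBn : B.Normal := step_normal hu (fun g => P.comm g _)
  have hBcard : Nat.card B = 4 := by rw [hB, step_card hu hun, hz2]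
  have hBmem : ∀ b ∈ B, b ∈ Subgroup.zpowers z ∨ ∃ c ∈ Subgroup.zpowers z, b = c * (i * k) := fun b hb =>
    step_mem hu hb
  have hbc : ∀ x : G, x * (i * k) = (i * k) * x → ∀ b ∈ B, x * b = b * x := by
    intro x hx b hb
    rcases hBmem b hb with h | ⟨c, hc, rfl⟩
    · exact hcz x b h
    · rw [← mul_assoc, hcz x c hc, mul_assoc, hx, ← mul_assoc]
  have hv : (j * l) * (j * l) ∈ B := by rw [P.vv]; exact one_mem _
  have hvn : j * l ∉ B := fun h => hiv (hbc i P.iu _ h)
  set A := B ⊔ Subgroup.zpowers (j * l) with hA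
  haveI hAn : A.Normal := step_normal hv (fun g => mem_sup_left (T := Subgroup.zpowers (i * k)) (P.comm g _))
  have hAcard : Nat.card A = 8 := by rw [hA, step_card hv hvn, hBcard]
  have hAmem : ∀ a ∈ A, a ∈ B ∨ ∃ b ∈ B, a = b * (j * l) := fun a ha => step_mem hv ha
  have hzA : z ∈ A := mem_sup_left (mem_sup_left (mem_zpowers z))
  have huA : i * k ∈ A := mem_sup_left (mem_sup_right (mem_zpowers _))
  have hvA : j * l ∈ A := mem_sup_right (mem_zpowers _)
  have hac : ∀ x : G, x * (i * k) = (i * k) * x → x * (j * l) = (j * l) * x → ∀ a ∈ A, x * a = a * x := by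
    intro x hxu hxv a ha
    rcases hAmem a ha with h | ⟨b, hb, rfl⟩
    · exact hbc x hxu a h
    · rw [← mul_assoc, hbc x hxu b hb, mul_assoc, hxv, ← mul_assoc]
  have hAc : ∀ x ∈ A, ∀ y ∈ A, x * y = y * x := by
    intro x hx y hy
    exact (hac y (hac (i * k) rfl P.uv y hy).symm (hac (j * l) P.uv.symm rfl y hy).symm x hx).symm
  have hA2 : ∀ x ∈ A, x * x = 1 := by
    have hB2 : ∀ b ∈ B, b * b = 1 := by
      intro b hb
      rcases hBmem b hb with h | ⟨c, hc, rfl⟩
      · rcases P.zv h with rfl | rfl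
        · simp
        · exact P.zz
      · calc c * (i * k) * (c * (i * k)) = c * ((i * k) * c) * (i * k) := by group
          _ = (c * c) * ((i * k) * (i * k)) := by rw [hcz _ c hc]; group
          _ = 1 := by rcases P.zv hc with rfl | rfl <;> simp [P.uu, P.zz]
    intro x hx
    rcases hAmem x hx with h | ⟨b, hb, rfl⟩
    · exact hB2 x h
    · calc b * (j * l) * (b * (j * l)) = b * ((j * l) * b) * (j * l) := by group
        _ = b * (b * (j * l)) * (j * l) := by rw [hbc (j * l) P.uv.symm b hb]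
        _ = (b * b) * ((j * l) * (j * l)) := by group
        _ = 1 := by rw [hB2 b hb, P.vv, one_mul]
  have hiju : (i * j) * (i * k) = z * ((i * k) * (i * j)) := by
    calc (i * j) * (i * k) = i * (j * (i * k)) := by group
      _ = i * (z * ((i * k) * j)) := by rw [P.ju]
      _ = (i * z) * ((i * k) * j) := by group
      _ = z * ((i * (i * k)) * j) := by rw [P.zc]; group
      _ = _ := by rw [P.iu]; group
  have hiju' := not_comm P hiju
  have hiA : i ∉ A := fun h => hiv (hAc i h _ hvA)
  have hjA : j ∉ A := fun h => hju (hAc j h _ huA)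
  have hijA : i * j ∉ A := fun h => hiju' (hAc _ h _ huA)
  let f : Fin 4 → G := ![1, i, j, i * j]
  have hbij : Function.Bijective (fun p : A × Fin 4 => (p.1 : G) * f p.2) := by
    refine Function.Injective.bijective_of_nat_card_le ?_ ?_
    · rintro ⟨a, m⟩ ⟨b, n⟩ h
      have hd : f m * (f n)⁻¹ ∈ A := by
        have e : f m * (f n)⁻¹ = (a : G)⁻¹ * b := by
          calc f m * (f n)⁻¹ = (a : G)⁻¹ * ((a : G) * f m) * (f n)⁻¹ := by group
            _ = (a : G)⁻¹ * ((b : G) * f n) * (f n)⁻¹ := by rw [show (a : G) * f m = b * f n from h]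
            _ = _ := by group
        rw [e]; exact mul_mem (inv_mem a.2) b.2
      have hd' : f n * (f m)⁻¹ ∈ A := by simpa using inv_mem hd
      have hzA' : ∀ x : G, x ∈ A ↔ z * x ∈ A := fun x =>
        ⟨mul_mem hzA, fun h => by simpa using mul_mem (inv_mem hzA) h⟩
      have hmn : m = n := by
        have h1 : i⁻¹ = z * i := inv_eq_of_mul_eq_one_right (by rw [← mul_assoc, P.zc, mul_assoc, P.ii, P.zz])
        have h3 : j⁻¹ = z * j := inv_eq_of_mul_eq_one_right (by rw [← mul_assoc, P.zc, mul_assoc, P.jj, P.zz])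
        have e1 : i * j * i⁻¹ ∈ A → False := fun h' => hjA (by
          simpa [mul_assoc] using Normal.conj_mem hAn _ h' i⁻¹)
        have e2 : i * j * j⁻¹ ∈ A → False := fun h' => hiA (by simpa using h')
        have e3 : i * j⁻¹ ∈ A → False := fun h' => hijA (by
          rw [h3, ← mul_assoc, P.zc, mul_assoc] at h'
          exact (hzA' _).mpr h')
        fin_cases m <;> fin_cases n <;> first
          | rfl
          | (exfalso
             first
               | exact hiA (by simpa [f] using hd)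
               | exact hiA (by simpa [f] using hd')
               | exact hjA (by simpa [f] using hd)
               | exact hjA (by simpa [f] using hd')
               | exact hijA (by simpa [f] using hd)
               | exact hijA (by simpa [f] using hd')
               | exact e1 (by simpa [f, mul_assoc] using hd)
               | exact e1 (by simpa [f, mul_assoc] using hd')
               | exact e2 (by simpa [f, mul_assoc] using hd)
               | exact e2 (by simpa [f, mul_assoc] using hd')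
               | exact e3 (by simpa [f, mul_assoc] using hd)
               | exact e3 (by simpa [f, mul_assoc] using hd'))
      subst hmn
      exact Prod.ext (Subtype.ext (mul_right_cancel h)) rfl
    · simp [Nat.card_prod, hAcard, h32]
  have hcos : ∀ g : G, ∃ a ∈ A, g = a ∨ g = a * i ∨ g = a * j ∨ g = a * (i * j) := by
    intro g
    obtain ⟨⟨a, m⟩, rfl⟩ := hbij.2 g
    refine ⟨a, a.2, ?_⟩
    fin_cases m <;> simp [f]
  refine ⟨A, hAn, hAcard, hAc, hA2, hzA, huA, hvA, ?_, hcos, fun a ha => ?_⟩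
  · intro g hg
    obtain ⟨a, ha, hga⟩ := hcos g
    have hcancel : ∀ x w : G, g = a * x → w ∈ A → x * w = w * x := fun x w hx hw => by
      have h1 : a * x * w = w * (a * x) := hx ▸ (mem_centralizer_iff.mp hg w hw).symm
      rw [← mul_assoc w a x, ← hAc a ha w hw, mul_assoc, mul_assoc] at h1
      exact mul_left_cancel h1
    rcases hga with rfl | h | h | h
    · exact ha
    · exact absurd (hcancel i _ h hvA) hiv
    · exact absurd (hcancel j _ h huA) hju
    · exact absurd (hcancel _ _ h huA) hiju'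
  · rcases hAmem a ha with h | ⟨b, hb, rfl⟩
    · exact Or.inl (hBmem a h)
    · exact Or.inr ⟨b, hBmem b hb, rfl⟩

theorem pairing {S : Type*} [Group S] [Finite S] (h2 : IsPGroup 2 S) (Q : Subgroup S)
    (h32 : Nat.card Q = 32) (hC : Subgroup.centralizer (Q : Set S) ≤ Q) {z i j k l : Q}
    (P : Pairs z i j k l) :
    Cfsg.SectionalPRankLE 2 4 S ∨ ∃ t : S, t * z = z * t ∧
      (∃ c ∈ Subgroup.zpowers (z : S), t * i * t⁻¹ = c * k) ∧
      (∃ c ∈ Subgroup.zpowers (z : S), t * j * t⁻¹ = c * l) := by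
  obtain ⟨A, hAn, hA8, hAc, hA2, hzA, huA, hvA, hAC, hcos, hform⟩ := exists_eight h32 P
  set A' := A.map Q.subtype with hA'
  have hA8' : Nat.card A' = 8 := by rw [hA', card_map_of_injective Q.subtype_injective, hA8]
  have hAc' : ∀ x ∈ A', ∀ y ∈ A', x * y = y * x := by
    rintro _ ⟨a, ha, rfl⟩ _ ⟨b, hb, rfl⟩
    exact congrArg Subtype.val (hAc a ha b hb)
  have hA2' : ∀ x ∈ A', x * x = 1 := by
    rintro _ ⟨a, ha, rfl⟩
    exact congrArg Subtype.val (hA2 a ha)
  by_cases hT : Subgroup.centralizer (A' : Set S) ≤ A'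
  · exact Or.inl (Main.sectional_le_four h2 A' hAc' hA2' hA8' hT)
  refine Or.inr ?_
  let M : Subgroup S := Subgroup.normalizer (A' : Set S)
  have hQM : Q ≤ M := fun q hq => mem_normalizer_fintype (by
    rintro _ ⟨a, ha, rfl⟩
    exact ⟨⟨q, hq⟩ * a * ⟨q, hq⟩⁻¹, hAn.conj_mem a ha _, rfl⟩)
  have hconj : ∀ g ∈ M, ∀ w : S, w ∈ A' → g * w * g⁻¹ ∈ A' := fun g hg w hw =>
    (mem_normalizer_iff.mp hg w).mp hw
  have hTM : Subgroup.centralizer (A' : Set S) ≤ M := fun g hg => mem_normalizer_fintype (fun w hw => by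
    rw [← mem_centralizer_iff.mp hg w hw, mul_inv_cancel_right]; exact hw)
  haveI : (A'.subgroupOf M).Normal := ⟨fun w hw g => hconj g g.2 w hw⟩
  haveI : ((Subgroup.centralizer (A' : Set S)).subgroupOf M).Normal := by
    refine ⟨fun w hw g => mem_centralizer_iff.mpr fun x hx => ?_⟩
    have h1 := hconj _ (inv_mem g.2) x hx
    rw [inv_inv] at h1
    have h1' : ((g : S)⁻¹ * x * g) * (w : S) = (w : S) * ((g : S)⁻¹ * x * g) := mem_centralizer_iff.mp hw _ h1
    show x * ((g : S) * w * (g : S)⁻¹) = (g : S) * w * (g : S)⁻¹ * x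
    calc x * ((g : S) * w * (g : S)⁻¹) = (g : S) * ((g : S)⁻¹ * x * g * w) * (g : S)⁻¹ := by group
      _ = (g : S) * (w * ((g : S)⁻¹ * x * g)) * (g : S)⁻¹ := by rw [h1']
      _ = _ := by group
  have hlt : A'.subgroupOf M < (Subgroup.centralizer (A' : Set S)).subgroupOf M := by
    refine lt_of_le_of_ne (fun w hw => mem_centralizer_iff.mpr fun x hx => hAc' x hx w hw) fun e => hT ?_
    intro g hg
    have h1 : (⟨g, hTM hg⟩ : M) ∈ (Subgroup.centralizer (A' : Set S)).subgroupOf M := hg
    rw [← e] at h1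
    exact h1
  obtain ⟨m, hmT, hmA, -, hmc⟩ := exists_step (h2.to_subgroup M) hlt
  set t : S := (m : S) with ht
  have htA : ∀ a ∈ A, t * (a : S) = (a : S) * t := fun a ha => (mem_centralizer_iff.mp hmT _ ⟨a, ha, rfl⟩).symm
  have htQ : ∀ q : Q, ∃ a ∈ A, t * (q : S) * t⁻¹ = ((q * a : Q) : S) := by
    intro q
    obtain ⟨a, ha, he⟩ := hmc ⟨((q⁻¹ : Q) : S), hQM (q⁻¹).2⟩
    refine ⟨a, ha, ?_⟩
    have he' : (a : S) = ((q⁻¹ : Q) : S) * t * ((q⁻¹ : Q) : S)⁻¹ * t⁻¹ := he
    push_cast at he' ⊢
    rw [he']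
    group
  have htA' : t ∉ A' := fun h => hmA h
  have hsq : ∀ q a : Q, t * (q : S) * t⁻¹ = ((q * a : Q) : S) → q * q = z → (q * a) * (q * a) = z := by
    intro q a he hq
    apply Subtype.ext
    push_cast
    have h1 : ((q * a : Q) : S) = (q : S) * a := rfl
    rw [← h1, ← he]
    calc t * (q : S) * t⁻¹ * (t * (q : S) * t⁻¹) = t * ((q * q : Q) : S) * t⁻¹ := by push_cast; group
      _ = (z : S) := by rw [hq, htA z hzA]; group
  have hshape : ∀ {q w o : Q}, q * q = z → w * w = 1 → q * w = w * q → o * o = 1 → q * o = z * (o * q) →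
      w * o = o * w → ∀ a, (a ∈ Subgroup.zpowers z ∨ (∃ c ∈ Subgroup.zpowers z, a = c * w)) ∨
        (∃ b, (b ∈ Subgroup.zpowers z ∨ (∃ c ∈ Subgroup.zpowers z, b = c * w)) ∧ a = b * o) →
      (q * a) * (q * a) = z → a ∈ Subgroup.zpowers z ∨ (∃ c ∈ Subgroup.zpowers z, a = c * w) := by
    intro q w o hq hw hqw ho hqo hwo a ha hqa
    rcases ha with h | ⟨b, hb, rfl⟩
    · exact h
    exfalso
    have hc : ∀ c ∈ Subgroup.zpowers z, c * c = 1 ∧ ∀ x : Q, x * c = c * x := fun c hc => by
      rcases P.zv hc with rfl | rfl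
      · simp
      · exact ⟨P.zz, P.zc⟩
    have hbb : b * b = 1 ∧ q * b = b * q ∧ o * b = b * o := by
      rcases hb with h | ⟨c, hcz, rfl⟩
      · exact ⟨(hc b h).1, (hc b h).2 q, (hc b h).2 o⟩
      · refine ⟨?_, ?_, ?_⟩
        · calc c * w * (c * w) = c * (w * c) * w := by group
            _ = (c * c) * (w * w) := by rw [(hc c hcz).2 w]; group
            _ = 1 := by rw [(hc c hcz).1, hw, one_mul]
        · rw [← mul_assoc, (hc c hcz).2 q, mul_assoc, hqw, mul_assoc]
        · rw [← mul_assoc, (hc c hcz).2 o, mul_assoc, ← hwo, mul_assoc]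
    obtain ⟨hb2, hqb, hob⟩ := hbb
    have h1 : q * (b * o) * (q * (b * o)) = 1 := by
      calc q * (b * o) * (q * (b * o)) = (q * b) * o * ((q * b) * o) := by group
        _ = b * (q * o) * ((b * q) * o) := by rw [hqb]; group
        _ = b * (z * (o * q)) * (b * (q * o)) := by rw [hqo]; rw [mul_assoc b q o, hqo]
        _ = (b * z) * o * (q * b) * (q * o) := by group
        _ = (z * b) * o * (b * q) * (q * o) := by rw [P.zc b, hqb]
        _ = z * (b * (o * b)) * (q * q) * o := by group
        _ = z * (b * b) * o * (q * q) * o := by rw [hob]; group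
        _ = z * o * z * o := by rw [hb2, hq, mul_one]
        _ = z * (z * o) * o := by rw [mul_assoc z o z, P.zc o]
        _ = (z * z) * (o * o) := by group
        _ = 1 := by rw [P.zz, ho, one_mul]
    exact P.ne (hqa.symm.trans h1)
  have hformj : ∀ a ∈ A, (a ∈ Subgroup.zpowers z ∨ (∃ c ∈ Subgroup.zpowers z, a = c * (j * l))) ∨
      (∃ b, (b ∈ Subgroup.zpowers z ∨ (∃ c ∈ Subgroup.zpowers z, b = c * (j * l))) ∧ a = b * (i * k)) := by
    intro a ha
    rcases hform a ha with (h | ⟨c, hc, rfl⟩) | ⟨b, h | ⟨c, hc, rfl⟩, rfl⟩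
    · exact Or.inl (Or.inl h)
    · exact Or.inr ⟨c, Or.inl hc, rfl⟩
    · exact Or.inl (Or.inr ⟨b, h, rfl⟩)
    · exact Or.inr ⟨c * (j * l), Or.inr ⟨c, hc, rfl⟩, by rw [mul_assoc c (i * k), mul_assoc c (j * l), P.uv]⟩
  obtain ⟨a, ha, hai⟩ := htQ i
  obtain ⟨a', ha', haj⟩ := htQ j
  have ha1 := hshape P.ii P.uu P.iu P.vv P.iv P.uv a (hform a ha) (hsq i a hai P.ii)
  have ha2 := hshape P.jj P.vv P.jv P.uu P.ju P.uv.symm a' (hformj a' ha') (hsq j a' haj P.jj)
  have hijs : (i * j) * (i * j) = z := by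
    calc (i * j) * (i * j) = i * (j * i) * j := by group
      _ = i * (z * i * j) * j := by rw [P.ji]
      _ = (i * z) * i * (j * j) := by group
      _ = z * (i * i) * (j * j) := by rw [P.zc]; group
      _ = z := by rw [P.ii, P.jj, P.zz, one_mul]
  have haij : ((i * a) * (j * a')) * ((i * a) * (j * a')) = z := by
    apply Subtype.ext
    push_cast
    have h1 : (i : S) * a = ((i * a : Q) : S) := rfl
    have h1' : (j : S) * a' = ((j * a' : Q) : S) := rfl
    rw [h1, h1', ← hai, ← haj]
    calc t * (i : S) * t⁻¹ * (t * (j : S) * t⁻¹) * (t * (i : S) * t⁻¹ * (t * (j : S) * t⁻¹))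
        = t * (((i * j) * (i * j) : Q) : S) * t⁻¹ := by push_cast; group
      _ = (z : S) := by rw [hijs, htA z hzA]; group
  have hcz : ∀ c ∈ Subgroup.zpowers z, c * c = 1 ∧ ∀ x : Q, x * c = c * x := fun c hc => by
    rcases P.zv hc with rfl | rfl
    · simp
    · exact ⟨P.zz, P.zc⟩
  have hcen2 : ∀ x c c' : Q, c ∈ Subgroup.zpowers z → c' ∈ Subgroup.zpowers z → x * x = 1 →
      (c * c' * x) * (c * c' * x) = 1 := by
    intro x c c' hc hc' hx
    obtain ⟨h1, h2⟩ := hcz _ (mul_mem hc hc')
    calc c * c' * x * (c * c' * x) = c * c' * (x * (c * c')) * x := by group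
      _ = (c * c' * (c * c')) * (x * x) := by rw [h2 x]; group
      _ = 1 := by rw [h1, hx, one_mul]
  have hzpow : ∀ c ∈ Subgroup.zpowers z, (c : S) ∈ Subgroup.zpowers (z : S) := fun c hc => by
    rcases P.zv hc with rfl | rfl
    · exact one_mem _
    · exact mem_zpowers _
  rcases ha1 with hc1 | ⟨c, hc, rfl⟩
  · rcases ha2 with hc2 | ⟨c', hc', rfl⟩
    · exfalso
      have hsign : ∃ w ∈ A, w * i * w⁻¹ = i * a ∧ w * j * w⁻¹ = j * a' := by
        have hvi : (j * l) * i * (j * l)⁻¹ = i * z := by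
          rw [mul_inv_eq_iff_eq_mul, P.zc i, mul_assoc z i, P.iv, ← mul_assoc z z, P.zz, one_mul]
        have huj : (i * k) * j * (i * k)⁻¹ = j * z := by
          rw [mul_inv_eq_iff_eq_mul, P.zc j, mul_assoc z j, P.ju, ← mul_assoc z z, P.zz, one_mul]
        have hui : (i * k) * i * (i * k)⁻¹ = i := by rw [← P.iu, mul_inv_cancel_right]
        have hvj : (j * l) * j * (j * l)⁻¹ = j := by rw [← P.jv, mul_inv_cancel_right]
        rcases P.zv hc1 with rfl | rfl <;> rcases P.zv hc2 with rfl | rfl
        · exact ⟨1, one_mem _, by simp, by simp⟩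
        · exact ⟨i * k, huA, by rw [hui, mul_one], huj⟩
        · exact ⟨j * l, hvA, hvi, by rw [hvj, mul_one]⟩
        · refine ⟨(i * k) * (j * l), mul_mem huA hvA, ?_, ?_⟩
          · calc i * k * (j * l) * i * (i * k * (j * l))⁻¹
                = (i * k) * ((j * l) * i * (j * l)⁻¹) * (i * k)⁻¹ := by group
              _ = ((i * k) * i * (i * k)⁻¹) * ((i * k) * a' * (i * k)⁻¹) := by rw [hvi]; group
              _ = _ := by rw [hui, P.zc (i * k), mul_inv_cancel_right]
          · calc i * k * (j * l) * j * (i * k * (j * l))⁻¹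
                = (i * k) * ((j * l) * j * (j * l)⁻¹) * (i * k)⁻¹ := by group
              _ = _ := by rw [hvj, huj]
      obtain ⟨w, hw, hwi, hwj⟩ := hsign
      have hwi' : (w : S) * i * (w : S)⁻¹ = t * i * t⁻¹ := by rw [hai, ← hwi]; rfl
      have hwj' : (w : S) * j * (w : S)⁻¹ = t * j * t⁻¹ := by rw [haj, ← hwj]; rfl
      have hfix : ∀ y : S, (w : S) * y * (w : S)⁻¹ = t * y * t⁻¹ → y * ((w : S)⁻¹ * t) = (w : S)⁻¹ * t * y := by
        intro y hy
        calc y * ((w : S)⁻¹ * t) = (w : S)⁻¹ * ((w : S) * y * (w : S)⁻¹) * t := by group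
          _ = _ := by rw [hy]; group
      have hA1 : ∀ b ∈ A, (b : S) * ((w : S)⁻¹ * t) = (w : S)⁻¹ * t * b := fun b hb => by
        refine hfix b ?_
        rw [htA b hb, mul_inv_cancel_right]
        exact congrArg Subtype.val (show w * b * w⁻¹ = b by rw [hAc w hw b hb, mul_inv_cancel_right])
      have hmem : (w : S)⁻¹ * t ∈ Q := hC (mem_centralizer_iff.mpr fun y hy => by
        obtain ⟨b, hb, hg⟩ := hcos ⟨y, hy⟩
        have hbi := hfix i hwi'
        have hbj := hfix j hwj'
        rcases hg with hg | hg | hg | hg <;> rw [show y = _ from congrArg Subtype.val hg] <;>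
          push_cast
        · exact hA1 b hb
        · exact Commute.mul_left (hA1 b hb) hbi
        · exact Commute.mul_left (hA1 b hb) hbj
        · exact Commute.mul_left (hA1 b hb) (Commute.mul_left hbi hbj))
      have htQ' : t ∈ Q := by simpa using Q.mul_mem w.2 hmem
      exact htA' ⟨⟨t, htQ'⟩, hAC (mem_centralizer_iff.mpr fun b hb => Subtype.ext (htA b hb).symm), rfl⟩
    · exfalso
      have hx : (i * j) * (j * l) = z * ((j * l) * (i * j)) := by
        calc (i * j) * (j * l) = i * (j * (j * l)) := by group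
          _ = (i * (j * l)) * j := by rw [P.jv]; group
          _ = _ := by rw [P.iv]; group
      have h1 : ((i * j) * (j * l)) * ((i * j) * (j * l)) = 1 := by
        calc (i * j) * (j * l) * ((i * j) * (j * l)) = (i * j) * (j * l) * (z * ((j * l) * (i * j))) := by
              conv_lhs => arg 2; rw [hx]
          _ = ((i * j) * (j * l) * z) * ((j * l) * (i * j)) := by group
          _ = z * ((i * j) * ((j * l) * (j * l)) * (i * j)) := by rw [P.zc]; group
          _ = 1 := by rw [P.vv, mul_one, hijs, P.zz]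
      have e : i * a * (j * (c' * (j * l))) = a * c' * ((i * j) * (j * l)) := by
        calc i * a * (j * (c' * (j * l))) = (i * a) * ((j * c') * (j * l)) := by group
          _ = (a * i) * ((c' * j) * (j * l)) := by rw [(hcz a hc1).2 i, (hcz c' hc').2 j]
          _ = a * (i * c') * (j * (j * l)) := by group
          _ = _ := by rw [(hcz c' hc').2 i]; group
      rw [e] at haij
      exact P.ne (haij.symm.trans (hcen2 _ a c' hc1 hc' h1))
  · rcases ha2 with hc2 | ⟨c', hc', rfl⟩
    · exfalso
      have hx : j * (i * k) = z * ((i * k) * j) := P.ju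
      have hx2 : (i * j) * (i * k) = z * ((i * k) * (i * j)) := by
        calc (i * j) * (i * k) = i * (j * (i * k)) := by group
          _ = (i * z) * ((i * k) * j) := by rw [hx]; group
          _ = z * ((i * (i * k)) * j) := by rw [P.zc]; group
          _ = _ := by rw [P.iu]; group
      have h1 : ((i * k) * (i * j)) * ((i * k) * (i * j)) = 1 := by
        calc (i * k) * (i * j) * ((i * k) * (i * j)) = (i * k) * ((i * j) * (i * k)) * (i * j) := by group
          _ = ((i * k) * z) * (i * k) * ((i * j) * (i * j)) := by rw [hx2]; group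
          _ = (z * (i * k)) * (i * k) * z := by rw [P.zc, hijs]
          _ = z * ((i * k) * (i * k)) * z := by group
          _ = 1 := by rw [P.uu, mul_one, P.zz]
      have e : i * (c * (i * k)) * (j * a') = c * a' * ((i * k) * (i * j)) := by
        calc i * (c * (i * k)) * (j * a') = (i * c) * (i * k) * (j * a') := by group
          _ = (c * i) * (i * k) * (a' * j) := by rw [(hcz c hc).2 i, (hcz a' hc2).2 j]
          _ = c * ((i * (i * k)) * a') * j := by group
          _ = c * (a' * ((i * k) * i)) * j := by rw [(hcz a' hc2).2, P.iu]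
          _ = _ := by group
      rw [e] at haij
      exact P.ne (haij.symm.trans (hcen2 _ c a' hc hc2 h1))
    · refine ⟨t, htA z hzA, ⟨((c * z : Q) : S), hzpow _ (mul_mem hc (mem_zpowers z)), ?_⟩,
        ⟨((c' * z : Q) : S), hzpow _ (mul_mem hc' (mem_zpowers z)), ?_⟩⟩
      · rw [hai, show i * (c * (i * k)) = (c * z) * k by
          rw [← mul_assoc, (hcz c hc).2 i, mul_assoc, ← mul_assoc i i k, P.ii, mul_assoc]]
        rfl
      · rw [haj, show j * (c' * (j * l)) = (c' * z) * l by
          rw [← mul_assoc, (hcz c' hc').2 j, mul_assoc, ← mul_assoc j j l, P.jj, mul_assoc]]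
        rfl

end CfsgLib.LocalEvenB.SelfCentralEight.QuaternionPair
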