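import Cfsg.Agent.Lib.TwoGroups.MaximalClass
import Cfsg.Prelude.Def_CaseTheorems

/-!
Elementary abelian sections of 2-groups, phrased as pairs `N ≤ K` with all squares of `K` in `N`.
-/

set_option autoImplicit false

namespace CfsgLib.LocalEvenB.SelfCentralEight.Sections

open Subgroup

variable {G : Type*} [Group G]

/-- `N ≤ K` and every square of an element of `K` lies in `N`: then `K / N` is elementary abelian. -/
def Sec (K N : Subgroup G) : Prop := N ≤ K ∧ ∀ k ∈ K, k * k ∈ N

/-- Every elementary section of `G` has order at most `n`. -/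
def BoundBy (G : Type*) [Group G] (n : ℕ) : Prop := ∀ K N : Subgroup G, Sec K N → N.relIndex K ≤ n

theorem Sec.comm_mem {K N : Subgroup G} (h : Sec K N) {x y : G} (hx : x ∈ K) (hy : y ∈ K) :
    x * y * x⁻¹ * y⁻¹ ∈ N := by
  have e : x * y * x⁻¹ * y⁻¹ =
      (x * y) * (x * y) * ((y⁻¹ * x⁻¹ * y) * (y⁻¹ * x⁻¹ * y)) * (y⁻¹ * y⁻¹) := by group
  rw [e]
  exact mul_mem (mul_mem (h.2 _ (mul_mem hx hy))
    (h.2 _ (mul_mem (mul_mem (inv_mem hy) (inv_mem hx)) hy))) (h.2 _ (inv_mem hy))

theorem Sec.conj_mem {K N : Subgroup G} (h : Sec K N) {x y : G} (hx : x ∈ K) (hy : y ∈ N) :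
    x * y * x⁻¹ ∈ N := by
  simpa using mul_mem (h.comm_mem hx (h.1 hy)) hy

theorem Sec.inf {K N : Subgroup G} (h : Sec K N) (E : Subgroup G) : Sec (K ⊓ E) (N ⊓ E) :=
  ⟨inf_le_inf_right E h.1, fun k hk => ⟨h.2 k hk.1, mul_mem hk.2 hk.2⟩⟩

theorem Sec.map {H : Type*} [Group H] {K N : Subgroup G} (h : Sec K N) (f : G →* H) :
    Sec (K.map f) (N.map f) := by
  refine ⟨Subgroup.map_mono h.1, ?_⟩
  rintro _ ⟨k, hk, rfl⟩
  exact ⟨k * k, h.2 k hk, map_mul f k k⟩

theorem sectional_of_boundBy {k : ℕ} (h : BoundBy G (2 ^ k)) : Cfsg.SectionalPRankLE 2 k G := by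
  intro H N hN A hA hA2
  have hsec : Sec ((A.comap (QuotientGroup.mk' N)).map H.subtype) (N.map H.subtype) := by
    refine ⟨Subgroup.map_mono fun x hx => ?_, ?_⟩
    · show QuotientGroup.mk' N x ∈ A
      rw [(QuotientGroup.eq_one_iff x).mpr hx |> fun e => (show QuotientGroup.mk' N x = 1 from e)]
      exact one_mem _
    · rintro _ ⟨x, hx, rfl⟩
      refine ⟨x * x, (QuotientGroup.eq_one_iff _).mp ?_, map_mul _ _ _⟩
      have := hA2 _ hx
      rw [pow_two] at this
      exact this
  have h2 := h _ _ hsec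
  rw [relIndex_map_map_of_injective _ _ H.subtype_injective] at h2
  calc Nat.card A = (⊥ : Subgroup (H ⧸ N)).relIndex A := (relIndex_bot_left A).symm
    _ = N.relIndex (A.comap (QuotientGroup.mk' N)) := by
        have e := relIndex_comap (⊥ : Subgroup (H ⧸ N)) (QuotientGroup.mk' N) (A.comap (QuotientGroup.mk' N))
        rw [MonoidHom.comap_bot, QuotientGroup.ker_mk',
          map_comap_eq_self_of_surjective (QuotientGroup.mk'_surjective N)] at e
        exact e.symm
    _ ≤ 2 ^ k := h2

theorem card_eq_inf_mul_map [Finite G] {H : Type*} [Group H] (f : G →* H) (K : Subgroup G) :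
    Nat.card K = Nat.card (K ⊓ f.ker : Subgroup G) * Nat.card (K.map f) := by
  have h1 := card_mul_index (f.comp K.subtype).ker
  rw [Subgroup.index_ker, MonoidHom.range_comp, K.range_subtype] at h1
  rw [← h1, ← MonoidHom.comap_ker]
  congr 1
  have : (f.ker.comap K.subtype).map K.subtype = K ⊓ f.ker := by
    rw [Subgroup.map_comap_eq, K.range_subtype]
  rw [← this, card_map_of_injective K.subtype_injective]

theorem relIndex_mul_card [Finite G] {K N : Subgroup G} (h : N ≤ K) :
    N.relIndex K * Nat.card N = Nat.card K := by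
  rw [mul_comm, ← relIndex_bot_left N, ← relIndex_bot_left K]
  exact relIndex_mul_relIndex _ _ _ bot_le h

/-- The order of a section splits along a normal subgroup. -/
theorem relIndex_split [Finite G] {H : Type*} [Group H] (f : G →* H) {K N : Subgroup G} (h : N ≤ K) :
    N.relIndex K = (N ⊓ f.ker).relIndex (K ⊓ f.ker) * (N.map f).relIndex (K.map f) := by
  have hN : 0 < Nat.card N := Nat.card_pos
  apply Nat.eq_of_mul_eq_mul_right hN
  have hmap : (N.map f).relIndex (K.map f) * Nat.card (N.map f) = Nat.card (K.map f) := by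
    rw [mul_comm, ← relIndex_bot_left (N.map f), ← relIndex_bot_left (K.map f)]
    exact relIndex_mul_relIndex _ _ _ bot_le (Subgroup.map_mono h)
  rw [relIndex_mul_card h, card_eq_inf_mul_map f K, card_eq_inf_mul_map f N,
    ← relIndex_mul_card (inf_le_inf_right f.ker h), ← hmap]
  ring

theorem exists_pow_relIndex [Finite G] (h2 : IsPGroup 2 G) (N K : Subgroup G) :
    ∃ n, N.relIndex K = 2 ^ n := by
  haveI : Fact (Nat.Prime 2) := ⟨Nat.prime_two⟩
  exact (h2.to_subgroup K).index (N.subgroupOf K)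

theorem exists_pow_card [Finite G] (h2 : IsPGroup 2 G) (K : Subgroup G) : ∃ n, Nat.card K = 2 ^ n := by
  haveI : Fact (Nat.Prime 2) := ⟨Nat.prime_two⟩
  exact (h2.to_subgroup K).exists_card_eq

theorem relIndex_le_card [Finite G] {K N : Subgroup G} (h : N ≤ K) : N.relIndex K ≤ Nat.card K := by
  rw [← relIndex_mul_card h]
  exact Nat.le_mul_of_pos_right _ Nat.card_pos

theorem eq_bot_of_relIndex_eq [Finite G] {K N : Subgroup G} (h : N ≤ K)
    (he : N.relIndex K = Nat.card K) : N = ⊥ := by
  have h1 := relIndex_mul_card h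
  rw [he] at h1
  have hK : 0 < Nat.card K := Nat.card_pos
  have : Nat.card N = 1 := (Nat.mul_eq_left (Nat.pos_iff_ne_zero.mp hK)).mp h1
  exact Subgroup.eq_bot_of_card_eq N this

/-- A central element modulo `N` inside a larger normal subgroup. -/
theorem exists_step [Finite G] (h2 : IsPGroup 2 G) {N M : Subgroup G} [N.Normal] [M.Normal]
    (hNM : N < M) :
    ∃ m ∈ M, m ∉ N ∧ m * m ∈ N ∧ ∀ g : G, g * m * g⁻¹ * m⁻¹ ∈ N := by
  haveI : (M.map (QuotientGroup.mk' N)).Normal :=
    Subgroup.Normal.map inferInstance _ (QuotientGroup.mk'_surjective N)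
  have hne : M.map (QuotientGroup.mk' N) ≠ ⊥ := by
    intro h
    rw [Subgroup.map_eq_bot_iff, QuotientGroup.ker_mk'] at h
    exact absurd h (not_le_of_gt hNM)
  obtain ⟨z, hzM, hz2, hzc⟩ :=
    CfsgLib.TwoGroups.Classify.exists_central_involution (h2.to_quotient N) _ hne
  obtain ⟨m, hm, rfl⟩ := Subgroup.mem_map.mp hzM
  refine ⟨m, hm, fun h => ?_, ?_, fun g => ?_⟩
  · rw [QuotientGroup.mk'_apply, (QuotientGroup.eq_one_iff m).mpr h] at hz2
    simp at hz2
  · rw [← QuotientGroup.eq_one_iff, QuotientGroup.mk_mul, ← pow_two]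
    exact hz2 ▸ pow_orderOf_eq_one _
  · rw [← QuotientGroup.eq_one_iff, QuotientGroup.mk_mul, QuotientGroup.mk_mul, QuotientGroup.mk_mul,
      QuotientGroup.mk_inv, QuotientGroup.mk_inv]
    rw [Subgroup.mem_center_iff] at hzc
    have := hzc (QuotientGroup.mk' N g)
    simp only [QuotientGroup.mk'_apply] at this
    rw [this]
    group

/-- In a cyclic group an elementary section has order at most 2. -/
theorem relIndex_cyclic [Finite G] {K N : Subgroup G} (hc : IsCyclic K) (h : Sec K N) :
    N.relIndex K ≤ 2 := by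
  obtain ⟨g, hg⟩ := hc.exists_generator
  by_cases hgN : (g : G) ∈ N
  · have hKN : K ≤ N := fun x hx => by
      obtain ⟨i, hi⟩ := Subgroup.mem_zpowers_iff.mp (hg ⟨x, hx⟩)
      have : (g : G) ^ i = x := by
        simpa using congrArg Subtype.val hi
      exact this ▸ zpow_mem hgN i
    rw [relIndex_eq_one.mpr hKN]
    norm_num
  · refine le_of_eq (index_eq_two_iff.mpr ⟨g, fun x => ?_⟩)
    obtain ⟨i, rfl⟩ := Subgroup.mem_zpowers_iff.mp (hg x)
    simp only [Subgroup.mem_subgroupOf, Subgroup.coe_mul, SubgroupClass.coe_zpow]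
    have hev : ∀ j : ℤ, Even j → (g : G) ^ j ∈ N := by
      rintro j ⟨t, rfl⟩
      rw [← two_mul, zpow_mul]
      refine zpow_mem ?_ t
      rw [zpow_two]
      exact h.2 _ g.2
    rcases Int.even_or_odd i with hi | hi
    · refine Or.inr ⟨hev i hi, fun h' => hgN ?_⟩
      simpa using mul_mem (inv_mem (hev i hi)) h'
    · refine Or.inl ⟨?_, fun h' => hgN ?_⟩
      · rw [← zpow_add_one]
        exact hev _ hi.add_one
      · have := hev (i + 1) hi.add_one
        rw [zpow_add_one] at this
        simpa using mul_mem (inv_mem h') this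

/-- A 2-group with an involution whose centraliser has order at most 4 has rank at most two sections. -/
theorem boundBy_four [Finite G] (h2 : IsPGroup 2 G) {a : G} (ha : orderOf a = 2)
    (hc : Nat.card (Subgroup.centralizer ({a} : Set G)) ≤ 4) : BoundBy G 4 := by
  haveI : Fact (Nat.Prime 2) := ⟨Nat.prime_two⟩
  intro K N h
  obtain ⟨n, hn⟩ := h2.exists_card_eq
  rcases Nat.lt_or_ge n 3 with hn3 | hn3
  · refine le_trans (relIndex_le_card h.1) (le_trans (card_le_card_group K) ?_)
    rw [hn]
    interval_cases n <;> norm_num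
  obtain ⟨m, rfl⟩ : ∃ m, n = m + 3 := ⟨n - 3, by omega⟩
  have hca : Nat.card (Subgroup.centralizer ({a} : Set G)) = 4 := by
    have htne : (⊤ : Subgroup G) ≠ ⊥ := fun e => by
      have : a = 1 := Subgroup.mem_bot.mp (e ▸ Subgroup.mem_top a)
      simp [this] at ha
    obtain ⟨z, -, hz, hzc⟩ := CfsgLib.TwoGroups.Classify.exists_central_involution h2 ⊤ htne
    have hza : z ≠ a := by
      rintro rfl
      rw [show Subgroup.centralizer ({z} : Set G) = ⊤ from (eq_top_iff' _).mpr fun g =>
        mem_centralizer_singleton_iff.mpr (mem_center_iff.mp hzc g), card_top, hn] at hc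
      have : 2 ^ 3 ≤ 2 ^ (m + 3) := Nat.pow_le_pow_right (by norm_num) (by omega)
      omega
    obtain ⟨j, hj⟩ := exists_pow_card h2 (Subgroup.centralizer ({a} : Set G))
    rw [hj] at hc ⊢
    rcases j with _ | _ | _ | j
    · exfalso
      have he := Subgroup.eq_bot_of_card_eq _ (show Nat.card _ = 1 from hj)
      have : a = 1 := Subgroup.mem_bot.mp (he ▸ mem_centralizer_singleton_iff.mpr rfl)
      simp [this] at ha
    · exfalso
      have hle : Subgroup.zpowers a ≤ Subgroup.centralizer ({a} : Set G) :=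
        zpowers_le.mpr (mem_centralizer_singleton_iff.mpr rfl)
      have he := Subgroup.eq_of_le_of_card_ge hle (by rw [hj, Nat.card_zpowers, ha]; norm_num)
      have hzm : z ∈ Subgroup.zpowers a := by
        rw [he]
        exact mem_centralizer_singleton_iff.mpr (mem_center_iff.mp hzc a).symm
      obtain ⟨i, hi⟩ := mem_zpowers_iff.mp hzm
      rcases Int.even_or_odd' i with ⟨t, rfl | rfl⟩
      · rw [zpow_mul, zpow_two, ← pow_two, ← ha, pow_orderOf_eq_one, one_zpow] at hi
        simp [← hi] at hz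
      · rw [zpow_add_one, zpow_mul, zpow_two, ← pow_two, ← ha, pow_orderOf_eq_one, one_zpow, one_mul] at hi
        exact hza hi.symm
    · norm_num
    · exfalso
      have : 2 ^ 3 ≤ 2 ^ (j + 1 + 1 + 1) := Nat.pow_le_pow_right (by norm_num) (by omega)
      omega
  obtain ⟨R, hR, hRi⟩ :=
    CfsgLib.TwoGroups.MaximalClass.cyclic_max_of_involution_centralizer m G hn a ha hca
  haveI := Subgroup.normal_of_index_eq_two hRi
  rw [relIndex_split (QuotientGroup.mk' R) h.1, QuotientGroup.ker_mk']
  have h1 : (N ⊓ R).relIndex (K ⊓ R) ≤ 2 :=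
    relIndex_cyclic (isCyclic_of_injective (Subgroup.inclusion inf_le_right)
      (Subgroup.inclusion_injective _)) (h.inf R)
  have h3 : (N.map (QuotientGroup.mk' R)).relIndex (K.map (QuotientGroup.mk' R)) ≤ 2 := by
    refine le_trans (relIndex_le_card (Subgroup.map_mono h.1)) (le_trans (card_le_card_group _) ?_)
    exact hRi.le
  exact Nat.mul_le_mul h1 h3

/-- A central involution lies in every section of largest possible order. -/
theorem central_mem [Finite G] {r : ℕ} (hb : BoundBy G r) {K N : Subgroup G} (h : Sec K N)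
    (hr : r < 2 * N.relIndex K) {z : G} (hzz : z * z = 1) (hz : z ∈ Subgroup.center G) : z ∈ K := by
  by_contra hzK
  haveI := CfsgLib.TwoGroups.Classify.normal_zpowers_of_central hz
  have hs : Sec (K ⊔ Subgroup.zpowers z) N := by
    refine ⟨le_trans h.1 le_sup_left, fun k hk => ?_⟩
    obtain ⟨u, hu, v, hv, rfl⟩ := Subgroup.mem_sup_of_normal_right.mp hk
    have hvv : v * v = 1 := by
      obtain ⟨i, rfl⟩ := mem_zpowers_iff.mp hv
      rw [← (Commute.refl z).mul_zpow, hzz, one_zpow]
    have hvc : v ∈ Subgroup.center G := zpowers_le.mpr hz hv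
    have e : u * v * (u * v) = u * u := by
      rw [show u * v * (u * v) = u * (v * u) * v by group, ← mem_center_iff.mp hvc u,
        show u * (u * v) * v = u * u * (v * v) by group, hvv, mul_one]
    rw [e]
    exact h.2 u hu
  have h1 := hb _ _ hs
  rw [← relIndex_mul_relIndex N K _ h.1 le_sup_left] at h1
  have h3 : K.relIndex (K ⊔ Subgroup.zpowers z) ≠ 1 := fun e =>
    hzK (relIndex_eq_one.mp e (le_sup_right (a := K) (mem_zpowers z)))
  have h4 : K.relIndex (K ⊔ Subgroup.zpowers z) ≠ 0 := Subgroup.index_ne_zero_of_finite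
  have h5 : N.relIndex K * 2 ≤ N.relIndex K * K.relIndex (K ⊔ Subgroup.zpowers z) :=
    Nat.mul_le_mul_left _ (by omega)
  omega

end CfsgLib.LocalEvenB.SelfCentralEight.Sections
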