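import Cfsg.Agent.Lib.LocalEvenB.SelfCentralEight.Common

/-!
A normal elementary abelian subgroup of order 16 on which the outside elements fix no point of a four-subgroup.
-/

set_option autoImplicit false

namespace CfsgLib.LocalEvenB.SelfCentralEight.SelfNormalSixteen

open Subgroup
open CfsgLib.LocalEvenB.SelfCentralEight.Sections CfsgLib.LocalEvenB.SelfCentralEight.Conj
open CfsgLib.LocalEvenB.SelfCentralEight.EightFinish CfsgLib.LocalEvenB.SelfCentralEight.Common

variable {G : Type*} [Group G]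

/-- `u ↦ [g, u]` on a normal elementary abelian subgroup. -/
def tau {E : Subgroup G} (hE : NormalElem E) (g : G) : E →* G where
  toFun u := g * u * g⁻¹ * u
  map_one' := by simp
  map_mul' u v := by
    push_cast
    have h := hE.comm _ (hE.normal.conj_mem v v.2 g) u u.2
    calc g * ((u : G) * v) * g⁻¹ * (u * v) = g * u * g⁻¹ * ((g * v * g⁻¹) * u) * v := by group
      _ = g * u * g⁻¹ * ((u : G) * (g * v * g⁻¹)) * v := by rw [h]
      _ = _ := by group

theorem tau_apply {E : Subgroup G} (hE : NormalElem E) (g : G) (u : E) :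
    tau hE g u = g * u * g⁻¹ * u := rfl

theorem tau_mem {E : Subgroup G} (hE : NormalElem E) (g : G) (u : E) : tau hE g u ∈ E :=
  mul_mem (hE.normal.conj_mem u u.2 g) u.2

theorem tau_eq_one_iff {E : Subgroup G} (hE : NormalElem E) (g : G) (u : E) :
    tau hE g u = 1 ↔ (u : G) * g = g * u := by
  rw [tau_apply, mul_eq_one_iff_eq_inv, hE.inv_eq u.2, mul_inv_eq_iff_eq_mul, eq_comm]

theorem card_tau [Finite G] {E : Subgroup G} (hE : NormalElem E) (g : G) :
    Nat.card E = Nat.card (E ⊓ Subgroup.centralizer ({g} : Set G) : Subgroup G) * Nat.card (tau hE g).range := by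
  have h1 := card_mul_index (tau hE g).ker
  rw [Subgroup.index_ker] at h1
  rw [← h1]
  congr 1
  have : (tau hE g).ker.map E.subtype = E ⊓ Subgroup.centralizer ({g} : Set G) := by
    ext x
    simp only [Subgroup.mem_map, MonoidHom.mem_ker, mem_fix]
    constructor
    · rintro ⟨u, hu, rfl⟩
      exact ⟨u.2, (tau_eq_one_iff hE g u).mp hu⟩
    · rintro ⟨hx, hxg⟩
      exact ⟨⟨x, hx⟩, (tau_eq_one_iff hE g _).mpr hxg, rfl⟩
  rw [← this, card_map_of_injective E.subtype_injective]

theorem tau_le_fix {E : Subgroup G} (hE : NormalElem E) {g : G}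
    (hg : g * g ∈ Subgroup.centralizer (E : Set G)) :
    (tau hE g).range ≤ E ⊓ Subgroup.centralizer ({g} : Set G) := by
  rintro _ ⟨u, rfl⟩
  refine mem_fix.mpr ⟨tau_mem hE g u, ?_⟩
  have h := mem_centralizer_iff.mp hg u u.2
  have h1 : g * tau hE g u * g⁻¹ = tau hE g u := by
    rw [tau_apply]
    calc g * (g * u * g⁻¹ * u) * g⁻¹ = ((g * g) * u) * (g * g)⁻¹ * (g * u * g⁻¹) := by group
      _ = u * (g * u * g⁻¹) := by rw [← h]; group
      _ = _ := hE.comm _ u.2 _ (hE.normal.conj_mem u u.2 g)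
  exact (mul_inv_eq_iff_eq_mul.mp h1).symm

/-- Sections meet `E` in at most four points as soon as they leave `E`. -/
theorem no_thick_elt [Finite G] {E : Subgroup G} (hE : NormalElem E) (h16 : Nat.card E = 16)
    {K N : Subgroup G} (hKN : Sec K N) (hthick : 5 ≤ (N ⊓ E).relIndex (K ⊓ E)) {k : G} (hk : k ∈ K)
    (hfix : Nat.card (E ⊓ Subgroup.centralizer ({k} : Set G) : Subgroup G) ≤ 4) : False := by
  have hcom : ∀ u ∈ K ⊓ E, k * u * k⁻¹ * u ∈ N ⊓ E := fun u hu => by
    obtain ⟨huK, huE⟩ := Subgroup.mem_inf.mp hu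
    refine Subgroup.mem_inf.mpr ⟨?_, E.mul_mem (hE.normal.conj_mem u huE k) huE⟩
    have := hKN.comm_mem hk huK
    rwa [hE.inv_eq huE] at this
  have hri := relIndex_mul_card (inf_le_inf_right E hKN.1)
  have hdvd : Nat.card (K ⊓ E : Subgroup G) ∣ 16 := h16 ▸ card_dvd_of_le inf_le_right
  obtain ⟨j, hj4, hj⟩ := (Nat.dvd_prime_pow Nat.prime_two).mp (show Nat.card (K ⊓ E : Subgroup G) ∣ 2 ^ 4 from hdvd)
  have hpos : 0 < Nat.card (N ⊓ E : Subgroup G) := Nat.card_pos
  rw [hj] at hri
  rcases Nat.lt_or_ge j 4 with hj3 | hj4'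
  · have hle : 2 ^ j ≤ 8 := le_trans (Nat.pow_le_pow_right (by norm_num) (show j ≤ 3 by omega)) (by norm_num)
    have hP : N ⊓ E = ⊥ := by
      refine eq_bot_of_card_eq _ ?_
      by_contra hne
      have h2le : 2 ≤ Nat.card (N ⊓ E : Subgroup G) := by omega
      nlinarith
    have hMf : K ⊓ E ≤ E ⊓ Subgroup.centralizer ({k} : Set G) := fun u hu => by
      have huE := (Subgroup.mem_inf.mp hu).2
      have h1 := hcom u hu
      rw [hP, Subgroup.mem_bot] at h1
      exact mem_fix.mpr ⟨huE, (tau_eq_one_iff hE k ⟨u, huE⟩).mp h1⟩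
    have := card_le_of_le hMf
    have hc1 : Nat.card (N ⊓ E : Subgroup G) = 1 := by rw [hP, card_bot]
    rw [hc1, mul_one] at hri
    omega
  · have hj' : j = 4 := by omega
    subst hj'
    have hKE : E ≤ K := inf_eq_right.mp (eq_of_le_of_card_ge inf_le_right (by rw [h16, hj]; norm_num))
    have him : (tau hE k).range ≤ N ⊓ E := by
      rintro _ ⟨u, rfl⟩
      exact hcom u (Subgroup.mem_inf.mpr ⟨hKE u.2, u.2⟩)
    have h1 := card_le_of_le him
    have h2 := card_tau hE k
    rw [h16] at h2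
    nlinarith

theorem main [Finite G] (h2 : IsPGroup 2 G) {E B : Subgroup G} [E.Normal] (hE : NormalElem E)
    (h16 : Nat.card E = 16) (hBE : B ≤ E) (hB4 : Nat.card B = 4)
    (hb : ∀ b ∈ B, b ≠ 1 → Subgroup.centralizer ({b} : Set G) ≤ E) : BoundBy G 16 := by
  have hfix4 : ∀ g, g ∉ E → Nat.card (E ⊓ Subgroup.centralizer ({g} : Set G) : Subgroup G) ≤ 4 := by
    intro g hg
    let F : Subgroup G := E ⊓ Subgroup.centralizer ({g} : Set G)
    have hinj : Function.Injective (fun p : F × B => (⟨(p.1 : G) * p.2,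
        mul_mem (mem_fix.mp p.1.2).1 (hBE p.2.2)⟩ : E)) := by
      rintro ⟨f, b⟩ ⟨f', b'⟩ h
      have h' : (f : G) * b = f' * b' := congrArg Subtype.val h
      have hw : (f' : G)⁻¹ * f = b' * (b : G)⁻¹ := by
        calc (f' : G)⁻¹ * f = (f' : G)⁻¹ * (f * b) * (b : G)⁻¹ := by group
          _ = _ := by rw [h']; group
      have hwF : (f' : G)⁻¹ * f ∈ F := F.mul_mem (F.inv_mem f'.2) f.2
      have hwB : (b' : G) * (b : G)⁻¹ ∈ B := B.mul_mem b'.2 (B.inv_mem b.2)
      have hw1 : (b' : G) * (b : G)⁻¹ = 1 := by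
        by_contra hne
        refine hg (hb _ hwB hne (mem_centralizer_singleton_iff.mpr ?_))
        rw [← hw]
        exact (mem_fix.mp hwF).2.symm
      have hbb : (b' : G) = b := mul_inv_eq_one.mp hw1
      rw [hbb] at h'
      exact Prod.ext (Subtype.ext (mul_right_cancel h')) (Subtype.ext hbb.symm)
    have h1 := Nat.card_le_card_of_injective _ hinj
    rw [Nat.card_prod, hB4, h16] at h1
    show Nat.card F ≤ 4
    omega
  obtain ⟨b, hbB, hb1⟩ : ∃ b ∈ B, b ≠ 1 := by
    by_contra! hc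
    have : B = ⊥ := (eq_bot_iff_forall B).mpr hc
    rw [this, card_bot] at hB4
    omega
  have hbE := hBE hbB
  have hker : ∀ g h : G, g * b * g⁻¹ = h * b * h⁻¹ → g⁻¹ * h ∈ E := by
    intro g h he
    refine hb b hbB hb1 (mem_centralizer_singleton_iff.mpr ?_)
    calc g⁻¹ * h * b = g⁻¹ * (h * b * h⁻¹) * h := by group
      _ = _ := by rw [← he]; group
  have hX : BoundBy (G ⧸ E) 4 := by
    let φ : G ⧸ E → {u : E // u ≠ 1} := fun y => ⟨⟨y.out * b * y.out⁻¹, hE.normal.conj_mem b hbE _⟩,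
      fun e => hb1 (conj_eq_one_iff.mp (congrArg Subtype.val e))⟩
    have hφ : Function.Injective φ := by
      intro y y' h
      rw [← QuotientGroup.out_eq' y, ← QuotientGroup.out_eq' y', QuotientGroup.eq]
      exact hker _ _ (congrArg (fun p => ((p.1 : E) : G)) h)
    have hcard : Nat.card {u : E // u ≠ 1} = 15 := by
      classical
      haveI : Fintype E := Fintype.ofFinite _
      have h16' : Fintype.card E = 16 := by rw [← Nat.card_eq_fintype_card]; exact h16
      rw [Nat.card_eq_fintype_card, Fintype.card_subtype_compl, Fintype.card_subtype_eq, h16']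
    have h15 : Nat.card (G ⧸ E) ≤ 15 := hcard ▸ Nat.card_le_card_of_injective φ hφ
    intro K N hKN
    by_contra hgt
    obtain ⟨n, hn⟩ := exists_pow_relIndex (h2.to_quotient E) N K
    obtain ⟨m, hm⟩ := (h2.to_quotient E).exists_card_eq
    have hle := relIndex_le_card hKN.1
    have hK8 : Nat.card K ≤ Nat.card (G ⧸ E) := card_le_card_group K
    have hn3 : 3 ≤ n := by
      by_contra h
      have : 2 ^ n ≤ 2 ^ 2 := Nat.pow_le_pow_right (by norm_num) (by omega)
      omega
    have h8n : 2 ^ 3 ≤ 2 ^ n := Nat.pow_le_pow_right (by norm_num) hn3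
    have hm8 : Nat.card (G ⧸ E) ≤ 8 := by
      rw [hm]
      have : m ≤ 3 := by
        by_contra h
        have : 2 ^ 4 ≤ 2 ^ m := Nat.pow_le_pow_right (by norm_num) (by omega)
        omega
      exact le_trans (Nat.pow_le_pow_right (by norm_num) this) (by norm_num)
    have hN : N = ⊥ := eq_bot_of_relIndex_eq hKN.1 (by omega)
    have hK : K = ⊤ := eq_top_of_card_eq K (by omega)
    have hsq : ∀ g : G, g * g ∈ E := fun g => by
      have := hKN.2 _ (hK ▸ mem_top (QuotientGroup.mk g : G ⧸ E))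
      rw [hN, Subgroup.mem_bot, ← QuotientGroup.mk_mul, QuotientGroup.eq_one_iff] at this
      exact this
    have hcomm : ∀ g h : G, g * h * g⁻¹ * h⁻¹ ∈ E := fun g h => by
      have := hKN.comm_mem (hK ▸ mem_top (QuotientGroup.mk g : G ⧸ E))
        (hK ▸ mem_top (QuotientGroup.mk h : G ⧸ E))
      rw [hN, Subgroup.mem_bot, ← QuotientGroup.mk_inv, ← QuotientGroup.mk_inv, ← QuotientGroup.mk_mul,
        ← QuotientGroup.mk_mul, ← QuotientGroup.mk_mul, QuotientGroup.eq_one_iff] at this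
      exact this
    have hhalf : ∀ g, g ∉ E → Nat.card (E ⊓ Subgroup.centralizer ({g} : Set G) : Subgroup G) = 4 ∧
        (tau hE g).range = E ⊓ Subgroup.centralizer ({g} : Set G) := by
      intro g hg
      have hle' := tau_le_fix hE (hE.le_centralizer (hsq g))
      have h1 := card_tau hE g
      have h4 := hfix4 g hg
      have h5 := card_le_of_le hle'
      have hF : Nat.card (E ⊓ Subgroup.centralizer ({g} : Set G) : Subgroup G) = 4 := by
        rw [h16] at h1
        nlinarith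
      refine ⟨hF, eq_of_le_of_card_ge hle' ?_⟩
      rw [hF, h16] at h1
      omega
    obtain ⟨c, hc⟩ : ∃ c : G, c ∉ E := by
      by_contra! h
      have hall : ∀ y y' : G ⧸ E, y = y' := fun y y' => by
        rw [← QuotientGroup.out_eq' y, ← QuotientGroup.out_eq' y', QuotientGroup.eq]; exact h _
      haveI : Subsingleton (G ⧸ E) := ⟨hall⟩
      have := Nat.card_of_subsingleton (1 : G ⧸ E)
      omega
    obtain ⟨hF4, hFr⟩ := hhalf c hc
    set F : Subgroup G := E ⊓ Subgroup.centralizer ({c} : Set G) with hF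
    have hFinv : ∀ g u, u ∈ F → g * u * g⁻¹ ∈ F := by
      intro g u hu
      obtain ⟨huE, huc⟩ := mem_fix.mp hu
      refine mem_fix.mpr ⟨hE.normal.conj_mem u huE g, ?_⟩
      obtain ⟨e, he, hce⟩ : ∃ e ∈ E, c * g = e * (g * c) := ⟨_, hcomm c g, by group⟩
      have hx := hE.normal.conj_mem u huE g
      have hcomm' : c * (g * u * g⁻¹) * c⁻¹ = g * u * g⁻¹ := by
        calc c * (g * u * g⁻¹) * c⁻¹ = (c * g) * u * (c * g)⁻¹ := by group
          _ = e * (g * (c * u * c⁻¹) * g⁻¹) * e⁻¹ := by rw [hce]; group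
          _ = e * (g * u * g⁻¹) * e⁻¹ := by rw [mul_inv_eq_iff_eq_mul.mpr huc.symm]
          _ = _ := by rw [hE.comm e he _ hx, mul_inv_cancel_right]
      exact (mul_inv_eq_iff_eq_mul.mp hcomm').symm
    haveI : F.Normal := ⟨fun u hu g => hFinv g u hu⟩
    have hFne : F ≠ ⊥ := fun e => by rw [e, card_bot] at hF4; omega
    obtain ⟨w, hwF, hwo, hwc⟩ := CfsgLib.TwoGroups.Classify.exists_central_involution h2 F hFne
    have hw1 : w ≠ 1 := fun e => by simp [e] at hwo
    have hww : w * w = 1 := hE.sq w (mem_fix.mp hwF).1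
    obtain ⟨f, hf, hfw⟩ : ∃ f ∈ F, f ∉ Subgroup.zpowers w := by
      by_contra! hc'
      have := card_le_of_le (show F ≤ Subgroup.zpowers w from hc')
      rw [Nat.card_zpowers, hwo] at this
      omega
    have hFcases : ∀ u ∈ F, u ∈ Subgroup.zpowers w ∨ ∃ n ∈ Subgroup.zpowers w, u = n * f := fun u hu =>
      four_cases hF4 (fun x hx y hy => hE.comm x (mem_fix.mp hx).1 y (mem_fix.mp hy).1) hwF hf hww hw1 hfw hu
    have hwz : ∀ n ∈ Subgroup.zpowers w, ∀ g : G, g * n * g⁻¹ = n := fun n hn g => by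
      rw [mem_center_iff.mp (zpowers_le.mpr hwc hn) g, mul_inv_cancel_right]
    have hptw : ∀ g, g * f * g⁻¹ = f → ∀ u ∈ F, g * u * g⁻¹ = u := by
      intro g hg u hu
      rcases hFcases u hu with h | ⟨n, hn, rfl⟩
      · exact hwz u h g
      · rw [show g * (n * f) * g⁻¹ = (g * n * g⁻¹) * (g * f * g⁻¹) by group, hg, hwz n hn g]
    have hP1 : ∀ g : G, g * f * g⁻¹ = f → g ∉ E → E ⊓ Subgroup.centralizer ({g} : Set G) = F := by
      intro g hg hgE
      refine (eq_of_le_of_card_ge (fun u hu => mem_fix.mpr ⟨(mem_fix.mp hu).1, ?_⟩) ?_).symm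
      · exact (mul_inv_eq_iff_eq_mul.mp (hptw g hg u hu)).symm
      · rw [hF4, (hhalf g hgE).1]
    obtain ⟨g, hg⟩ : ∃ g : G, g * f * g⁻¹ ≠ f := by
      by_contra! hall
      have hmem : ∀ y : G ⧸ E, y.out * b * y.out⁻¹ * b ∈ F := fun y => by
        by_cases hy : y.out ∈ E
        · rw [hE.comm _ hy b hbE, mul_inv_cancel_right, hE.sq b hbE]
          exact one_mem _
        · have h1 : tau hE y.out ⟨b, hbE⟩ ∈ (tau hE y.out).range := ⟨_, rfl⟩
          rw [(hhalf _ hy).2, hP1 _ (hall _) hy] at h1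
          exact h1
      have hinj : Function.Injective (fun y : G ⧸ E => (⟨_, hmem y⟩ : F)) := by
        intro y y' h
        rw [← QuotientGroup.out_eq' y, ← QuotientGroup.out_eq' y', QuotientGroup.eq]
        exact hker _ _ (mul_right_cancel (congrArg Subtype.val h))
      have := Nat.card_le_card_of_injective _ hinj
      omega
    have hgE : g ∉ E := fun h => hg (by rw [hE.comm g h f (mem_fix.mp hf).1, mul_inv_cancel_right])
    obtain ⟨u, huE, huF, hug⟩ : ∃ u ∈ E, u ∉ F ∧ g * u * g⁻¹ * u ∈ F := by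
      have hbF : b ∉ F := fun h => hc (hb b hbB hb1 (mem_centralizer_singleton_iff.mpr (mem_fix.mp h).2.symm))
      by_cases h : g * b * g⁻¹ * b ∈ F
      · exact ⟨b, hbE, hbF, h⟩
      · refine ⟨g * b * g⁻¹ * b, mul_mem (hE.normal.conj_mem b hbE g) hbE, h, ?_⟩
        have h2' := tau_le_fix hE (hE.le_centralizer (hsq g)) ⟨⟨b, hbE⟩, rfl⟩
        rw [tau_apply] at h2'
        obtain ⟨h3, h4⟩ := mem_fix.mp h2'
        rw [show g * (g * b * g⁻¹ * b) * g⁻¹ = g * b * g⁻¹ * b by
          rw [← h4, mul_inv_cancel_right], hE.sq _ h3]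
        exact one_mem _
    let X1 : Subgroup G :=
      { carrier := {h | h * f * h⁻¹ = f}
        one_mem' := by simp
        mul_mem' := fun {p q} hp hq => by
          show p * q * f * (p * q)⁻¹ = f
          rw [show p * q * f * (p * q)⁻¹ = p * (q * f * q⁻¹) * p⁻¹ by group, hq, hp]
        inv_mem' := fun {p} hp => by
          show p⁻¹ * f * p⁻¹⁻¹ = f
          conv_lhs => rw [← hp]
          group }
    have hEX : E ≤ X1 := fun e he => by
      show e * f * e⁻¹ = f
      rw [hE.comm e he f (mem_fix.mp hf).1, mul_inv_cancel_right]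
    have hidx : Nat.card (G ⧸ E) ≤ 2 * Nat.card (X1.map (QuotientGroup.mk' E)) := by
      have hg' : ∀ h : G, h ∈ X1 ∨ g⁻¹ * h ∈ X1 := by
        intro h
        have hmove : ∀ k : G, k * f * k⁻¹ ≠ f → k * f * k⁻¹ = w * f := by
          intro k hk
          rcases hFcases _ (hFinv k f hf) with h' | ⟨n, hn, he⟩
          · exfalso
            apply hfw
            have := hwz _ h' k⁻¹
            rw [show k⁻¹ * (k * f * k⁻¹) * k⁻¹⁻¹ = f by group] at this
            exact this ▸ h'
          · obtain ⟨i, hi⟩ := mem_zpowers_iff.mp hn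
            rcases Int.even_or_odd' i with ⟨t, rfl | rfl⟩
            · rw [zpow_mul, zpow_two, hww, one_zpow] at hi
              exact absurd (by rw [he, ← hi, one_mul]) hk
            · rw [zpow_add_one, zpow_mul, zpow_two, hww, one_zpow, one_mul] at hi
              rw [he, hi]
        by_cases hh : h * f * h⁻¹ = f
        · exact Or.inl hh
        · refine Or.inr ?_
          show g⁻¹ * h * f * (g⁻¹ * h)⁻¹ = f
          rw [show g⁻¹ * h * f * (g⁻¹ * h)⁻¹ = g⁻¹ * (h * f * h⁻¹) * g by group, hmove h hh, ← hmove g hg]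
          group
      have hcov : Function.Surjective (fun p : Bool × X1.map (QuotientGroup.mk' E) =>
          (if p.1 then QuotientGroup.mk' E g * (p.2 : G ⧸ E) else (p.2 : G ⧸ E))) := by
        intro y
        obtain ⟨h, rfl⟩ := QuotientGroup.mk'_surjective E y
        rcases hg' h with h' | h'
        · exact ⟨(false, ⟨_, mem_map_of_mem _ h'⟩), rfl⟩
        · exact ⟨(true, ⟨_, mem_map_of_mem _ h'⟩), by simp⟩
      have := Nat.card_le_card_of_surjective _ hcov
      rw [Nat.card_prod] at this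
      simpa using this
    have hrep : ∀ y : X1.map (QuotientGroup.mk' E), ∃ h ∈ X1, QuotientGroup.mk' E h = (y : G ⧸ E) := fun y => y.2
    choose r hrX hr using hrep
    have hmem : ∀ y, r y * u * (r y)⁻¹ * u ∈ F := fun y => by
      by_cases hy : r y ∈ E
      · rw [hE.comm _ hy u huE, mul_inv_cancel_right, hE.sq u huE]
        exact one_mem _
      · have h1 : tau hE (r y) ⟨u, huE⟩ ∈ (tau hE (r y)).range := ⟨_, rfl⟩
        rw [(hhalf _ hy).2, hP1 _ (hrX y) hy] at h1
        exact h1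
    let χ : X1.map (QuotientGroup.mk' E) → F := fun y => ⟨_, hmem y⟩
    have hχ : Function.Injective χ := by
      intro y y' h
      apply Subtype.ext
      rw [← hr y, ← hr y', QuotientGroup.mk'_apply, QuotientGroup.mk'_apply, QuotientGroup.eq]
      by_contra hne
      have hx : (r y)⁻¹ * r y' ∈ X1 := X1.mul_mem (X1.inv_mem (hrX y)) (hrX y')
      apply huF
      rw [← hP1 _ hx hne]
      refine mem_fix.mpr ⟨huE, ?_⟩
      have he : r y * u * (r y)⁻¹ = r y' * u * (r y')⁻¹ := mul_right_cancel (congrArg Subtype.val h)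
      calc u * ((r y)⁻¹ * r y') = (r y)⁻¹ * (r y * u * (r y)⁻¹) * r y' := by group
        _ = _ := by rw [he]; group
    have hsurj : Function.Surjective χ :=
      (Function.Injective.bijective_of_nat_card_le hχ (by omega)).2
    obtain ⟨y, hy⟩ := hsurj ⟨f, hf⟩
    have hy' : r y * u * (r y)⁻¹ * u = f := congrArg Subtype.val hy
    apply hg
    obtain ⟨e, he, hge⟩ : ∃ e ∈ E, g * r y = e * (r y * g) := ⟨_, hcomm g (r y), by group⟩
    have hn2 : g * u * g⁻¹ = g * u * g⁻¹ * u * u := by rw [mul_assoc _ u u, hE.sq u huE, mul_one]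
    have hry : ∀ n ∈ F, r y * n * (r y)⁻¹ = n := fun n hn => hptw _ (hrX y) n hn
    calc g * f * g⁻¹ = (g * r y) * u * (g * r y)⁻¹ * (g * u * g⁻¹) := by rw [← hy']; group
      _ = e * (r y * (g * u * g⁻¹) * (r y)⁻¹) * e⁻¹ * (g * u * g⁻¹) := by rw [hge]; group
      _ = r y * (g * u * g⁻¹) * (r y)⁻¹ * (g * u * g⁻¹) := by
          rw [hE.comm e he _ (hE.normal.conj_mem _ (hE.normal.conj_mem u huE g) (r y)), mul_inv_cancel_right]
      _ = r y * (g * u * g⁻¹ * u * u) * (r y)⁻¹ * (g * u * g⁻¹ * u * u) := by rw [← hn2]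
      _ = (r y * (g * u * g⁻¹ * u) * (r y)⁻¹) * (r y * u * (r y)⁻¹) * (g * u * g⁻¹ * u * u) := by group
      _ = (g * u * g⁻¹ * u) * (r y * u * (r y)⁻¹) * ((g * u * g⁻¹ * u) * u) := by rw [hry _ hug]
      _ = ((g * u * g⁻¹ * u) * (g * u * g⁻¹ * u)) * ((r y * u * (r y)⁻¹) * u) := by
          rw [mul_assoc (g * u * g⁻¹ * u) (r y * u * (r y)⁻¹), ← mul_assoc (r y * u * (r y)⁻¹),
            hE.comm (r y * u * (r y)⁻¹) (hE.normal.conj_mem u huE _) _ (mem_fix.mp hug).1]
          group
      _ = f := by rw [hE.sq _ (mem_fix.mp hug).1, one_mul, hy']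
  intro K N hKN
  rw [relIndex_split (QuotientGroup.mk' E) hKN.1, QuotientGroup.ker_mk']
  have hX4 := hX _ _ (hKN.map (QuotientGroup.mk' E))
  have hle := relIndex_le_card (inf_le_inf_right E hKN.1)
  have hle2 : Nat.card (K ⊓ E : Subgroup G) ≤ 16 := h16 ▸ card_le_of_le inf_le_right
  rcases Nat.lt_or_ge ((N ⊓ E).relIndex (K ⊓ E)) 5 with h | h5
  · calc _ ≤ 4 * 4 := Nat.mul_le_mul (by omega) hX4
      _ = 16 := rfl
  by_cases hKE : K ≤ E
  · rw [show K.map (QuotientGroup.mk' E) = ⊥ by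
      rw [Subgroup.map_eq_bot_iff, QuotientGroup.ker_mk']; exact hKE, relIndex_bot_right]
    omega
  obtain ⟨k, hk, hkE⟩ := SetLike.not_le_iff_exists.mp hKE
  exact (no_thick_elt hE h16 hKN h5 hk (hfix4 k hkE)).elim

end CfsgLib.LocalEvenB.SelfCentralEight.SelfNormalSixteen
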